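import Groth.Agent.L21.Duality.Special
import Groth.Agent.L21.Bundle.Twist
import Groth.Agent.L27.Deg.PushRank
import Groth.Agent.L16.Exist.AlgComplete
import Groth.Prelude.Def_Omega3

/-!
Degrees of pullbacks along finite flat covers of curves.
-/

set_option autoImplicit false
set_option backward.isDefEq.respectTransparency false
set_option linter.style.haveILetI false
universe u

open CategoryTheory CategoryTheory.Limits AlgebraicGeometry TopologicalSpace Opposite

noncomputable section

namespace Groth.L21.CastSev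

open Groth.L21.RR (h)

variable {k : Type u} [Field k] {X Y : Scheme.{u}} [X.Over (Spec (CommRingCat.of k))]
  [IsProper (X ↘ Spec (CommRingCat.of k))] [Y.Over (Spec (CommRingCat.of k))]
  [IsProper (Y ↘ Spec (CommRingCat.of k))] [IsIntegral Y]

omit [IsProper (Y ↘ Spec (CommRingCat.of k))] [IsIntegral Y] in
theorem isSeparated_of_proper [IsProper (Y ↘ Spec (CommRingCat.of k))] : Y.IsSeparated :=
  ⟨by rw [← Limits.terminal.comp_from (Y ↘ Spec (CommRingCat.of k))]; infer_instance⟩

/-- The degree of a pullback along a finite flat cover is the rank times the degree. -/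
theorem deg_pullback (hd : topologicalKrullDim Y = 1) (f : X ⟶ Y) [IsFinite f] [Flat f]
    (hf : f ≫ (Y ↘ Spec (CommRingCat.of k)) = X ↘ Spec (CommRingCat.of k)) {n : ℕ}
    (hrk : ∀ y, f.finrank y = n) {M : Y.Modules} (hM : PicF.IsInvertible M) :
    Curv2.deg k X ((Scheme.Modules.pullback f).obj M) 1 = (n : ℤ) * Curv2.deg k Y M 1 := by
  haveI := Groth.L21.RR.isNoetherian_of_proper (X := X) k
  haveI := Groth.L21.RR.isNoetherian_of_proper (X := Y) k
  haveI := isSeparated_of_proper (k := k) (Y := Y)
  haveI : LocallyOfFinitePresentation f := inferInstance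
  have hE := Groth.L27.Deg.isFinLocFreeOfRank_push f hrk
  have h1 := Groth.L22.CurveDeg.phi_eq_of_integral k hd (Groth.L21.Bundle.locFree_one hM)
    (Groth.L21.Bundle.isCoh_of_rank hE)
  rw [Groth.L22.CurveDeg.phi_push k f hf (Groth.L21.Bundle.locFree_one hM) _
      Groth.L16.CohClosedPush.isCoh_structure.1,
    Groth.L22.CurveDeg.phi_structure, Groth.L21.Bundle.len_eq_rk (Groth.L21.Bundle.isCoh_of_rank hE),
    Groth.L21.Bundle.rk_eq hE] at h1
  exact h1

omit [X.Over (Spec (CommRingCat.of k))] [IsProper (X ↘ Spec (CommRingCat.of k))] [Y.Over (Spec (CommRingCat.of k))]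
  [IsProper (Y ↘ Spec (CommRingCat.of k))] [IsIntegral Y] in
/-- Sections killed by a pullback are killed by every further pullback. -/
theorem pullSect_comp_eq_zero {Z : Scheme.{u}} (f : X ⟶ Y) (g : Y ⟶ Z) (M : Z.Modules) (s : Γ(M, ⊤))
    (h0 : OmegaSh.pullSect g M ⊤ s = 0) : OmegaSh.pullSect (f ≫ g) M ⊤ s = 0 := by
  obtain ⟨e, he⟩ := Groth.L16.Exist.Adic.exists_unit_comp f g M
  have h1 : ((Scheme.Modules.pullbackPushforwardAdjunction (f ≫ g)).unit.app M).app ⊤ s =
      e.hom.app ⊤ (((Scheme.Modules.pullbackPushforwardAdjunction f).unit.app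
        ((Scheme.Modules.pullback g).obj M)).app (g ⁻¹ᵁ ⊤) (OmegaSh.pullSect g M ⊤ s)) := by
    rw [← he]; rfl
  change ((Scheme.Modules.pullbackPushforwardAdjunction (f ≫ g)).unit.app M).app ⊤ s = 0
  rw [h1, h0]
  simp only [map_zero]

end Groth.L21.CastSev
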