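import Groth.Agent.L21.CastSev.Main
import Groth.Agent.L12.HypInvol.Main
import Groth.Agent.L12.HypSq.Curve
import Groth.Agent.L21.Duality.EllipticPic
import Groth.Agent.L26.Elliptic.FieldCase
import Groth.Agent.L27.Quot.Basic
import Groth.Agent.L03.InterLen.Main

/-!
Double covers of the line by a curve of genus one.
-/

set_option autoImplicit false
set_option backward.isDefEq.respectTransparency false
set_option backward.isDefEq.respectTransparency.types false
set_option linter.style.haveILetI false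
universe u

open CategoryTheory CategoryTheory.Limits AlgebraicGeometry TopologicalSpace Opposite

noncomputable section

namespace Groth.L21.CastSev

open Groth.L21.RR (st h ptI)
open Groth.L18.PUP (P pr)
open Groth.L00.Tensor (tensorAssoc tensorComm tensorIso tensorUnitRight tensorUnitLeft)

theorem nonempty_iso_of_tensor_inverse {Y : Scheme.{u}} {A A' B : Y.Modules}
    (i : CohB1.tensorMod A B ≅ Coh.structureModule Y) (i' : CohB1.tensorMod A' B ≅ Coh.structureModule Y) :
    Nonempty (A ≅ A') :=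
  ⟨(tensorUnitRight A).symm ≪≫ tensorIso (Iso.refl A) (i'.symm ≪≫ tensorComm A' B) ≪≫
    (tensorAssoc A B A').symm ≪≫ tensorIso i (Iso.refl A') ≪≫ tensorUnitLeft A'⟩

/-- The pencil of a map to the line. -/
abbrev pencil {k : Type u} [Field k] {X : Scheme.{u}} (κ : X ⟶ P 1 k) : X.Modules :=
  (Scheme.Modules.pullback κ).obj (Groth.L21.P1.O k 1)

variable {k : Type u} [Field k] [IsAlgClosed k] {X : Scheme.{u}} [X.Over (Spec (CommRingCat.of k))]
  [IsIntegral X] [IsProper (X ↘ Spec (CommRingCat.of k))] [Smooth (X ↘ Spec (CommRingCat.of k))]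
  (hd : topologicalKrullDim X = 1) (hg : Curv2.genus k X = 1)

include hd hg in
/-- A point is determined by the class of its ideal. -/
theorem eq_of_iso_ptI {a b : X} (ha : IsClosed ({a} : Set X)) (hb : IsClosed ({b} : Set X))
    (i : ptI b hb ≅ ptI a ha) : a = b := by
  have hr : ∀ {z : X}, IsClosed ({z} : Set X) → Function.Bijective (Curv2.resMap k X z) := fun {z} hz => by
    refine ⟨(Curv2.resMap k X z).injective, fun v => ?_⟩
    obtain ⟨v, rfl⟩ := X.residue_surjective _ v
    obtain ⟨c, hc⟩ := Groth.L21.RR.isRat_of_isClosed k hz v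
    refine ⟨c, (sub_eq_zero.1 ?_).symm⟩
    have h0 : (X.residue z).hom (v - Groth.L21.RR.cstAt k z c) = 0 :=
      (IsLocalRing.residue_eq_zero_iff _).2 hc
    rw [map_sub] at h0
    exact h0
  obtain ⟨Q, -, huniq⟩ := Groth.L21.Duality.existsUnique_point (k := k) hd hg ha (hr ha)
    (Groth.L18.Ample.isInvertible_structureModule X) (by rw [Groth.L22.CurveDeg.deg_structure])
  have h1 := huniq ⟨a, ha, hr ha⟩ ⟨tensorUnitLeft _⟩
  have h2 := huniq ⟨b, hb, hr hb⟩ ⟨tensorUnitLeft _ ≪≫ i⟩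
  exact congrArg Subtype.val (h1.trans h2.symm)

variable (κ : X ⟶ P 1 k) [IsFinite κ] [Flat κ] (hκ : κ ≫ pr 1 k = X ↘ Spec (CommRingCat.of k))
  (hκ2 : ∀ y : P 1 k, κ.finrank y = 2)

include hd hg hκ hκ2 in
/-- The pencil is the class of each of its fibres. -/
theorem pencil_residual {x x' : X} (hx : IsClosed ({x} : Set X)) (hx' : IsClosed ({x'} : Set X))
    (hf : κ x' = κ x) (hcase : x' ≠ x ∨ ∀ z, κ z = κ x → z = x) :
    Nonempty (CohB1.tensorMod (CohB1.tensorMod (pencil κ) (ptI x hx)) (ptI x' hx') ≅ Coh.structureModule X) := by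
  letI : (P 1 k).Over (Spec (CommRingCat.of k)) := ⟨pr 1 k⟩
  haveI : IsProper ((P 1 k) ↘ Spec (CommRingCat.of k)) := inferInstanceAs (IsProper (pr 1 k))
  haveI : Smooth ((P 1 k) ↘ Spec (CommRingCat.of k)) := Groth.L16.ProjSpace.smooth_toSpec (n := 1) (R := k)
  haveI : IsIntegral (P 1 k) := Groth.L16.ProjSpace.isIntegral (n := 1) (R := k)
  haveI := Groth.L21.RR.isNoetherian_of_proper (X := X) k
  haveI := Groth.L21.RR.isNoetherian_of_proper (X := P 1 k) k
  have hdP : topologicalKrullDim (P 1 k) = 1 := Groth.L21.P1.topologicalKrullDim_eq (k := k)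
  have hO : PicF.IsInvertible (Groth.L21.P1.O k 1) := Groth.L16.ProjTwist.isInvertible_twistProjSpace 1 k 1
  have hQ : IsClosed ({κ x} : Set (P 1 k)) := by simpa using κ.isClosedMap _ hx
  obtain ⟨hA, heA, -, -, hAle, -⟩ := Groth.L21.RR.twist_point k hdP hO hQ
  have h2 : h k 0 (Groth.L21.P1.O k 1) = 2 := (Groth.L21.P1.h_O k 1).1.trans rfl
  rw [h2] at hAle
  obtain ⟨φ₀, hφ₀⟩ : ∃ φ : Coh.structureModule (P 1 k) ⟶
      CohB1.tensorMod (Groth.L21.P1.O k 1) (ptI (κ x) hQ), φ ≠ 0 := by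
    haveI := Groth.L21.Duality.nontrivial_of_h0_pos (k := k)
      (L := CohB1.tensorMod (Groth.L21.P1.O k 1) (ptI (κ x) hQ)) (by omega)
    exact Groth.L21.RR.exists_hom_ne_zero
  obtain ⟨hdeg0, hiso0⟩ := Groth.L22.CurveDeg.deg_add k hdP.le
    (Groth.L18.Ample.isInvertible_structureModule (P 1 k)) hA hφ₀
  haveI : IsIso φ₀ := by
    refine hiso0 ?_
    suffices Curv2.deg k (P 1 k) (CohB1.tensorMod (Groth.L21.P1.O k 1) (ptI (κ x) hQ)) 1 = 0 by
      rw [this, Groth.L22.CurveDeg.deg_structure] at hdeg0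
      omega
    rw [Curv2.deg, heA]
    rw [show Curv2.euler k (P 1 k) (Groth.L21.P1.O k 1) = 2 from Groth.L21.P1.euler_O (k := k) 1,
      show Curv2.euler k (P 1 k) (Coh.structureModule (P 1 k)) = 1 from Groth.L21.P1.euler_structure k]
    norm_num
  let s := φ₀ ≫ Groth.L21.RR.twι (Groth.L21.P1.O k 1)
    (Scheme.IdealSheafData.vanishingIdeal ⟨{κ x}, hQ⟩)
  have hι := Groth.L21.RR.isMinusPt_twι hO hQ
  have hs : ∀ y, y ≠ κ x → Function.Surjective (st s y) := fun y hy =>
    (hι.surjective_comp_iff hy φ₀).2 ((Groth.L21.Mod.epi_iff_stalk_surjective φ₀).1 inferInstance y)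
  have hL : PicF.IsInvertible (pencil κ) := Groth.L18.Ample.isInvertible_pullback κ hO
  let t : Coh.structureModule X ⟶ pencil κ := Groth.L18.Ample.pullHom κ s
  have key : ∀ z : X, Function.Surjective (st t z) ↔ Function.Surjective (st s (κ z)) := fun z => by
    rw [← Groth.L21.RR.mem_genLocus_iff hL, ← Groth.L21.RR.mem_genLocus_iff hO,
      Groth.L18.Ample.genLocus_pullHom κ hO]
    rfl
  have htx : ¬ Function.Surjective (st t x) := mt (key x).1 (hι.not_surjective_comp hO φ₀)
  have htx' : ¬ Function.Surjective (st t x') := fun hh => by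
    have := (key x').1 hh
    rw [hf] at this
    exact hι.not_surjective_comp hO φ₀ this
  have hιx := Groth.L21.RR.isMinusPt_twι hL hx
  obtain ⟨ψ, hψ⟩ := hιx.exists_lift_section hL t htx
  obtain ⟨hA1, -, hd1, -, -, -⟩ := Groth.L21.RR.twist_point k hd hL hx
  haveI : ConnectedSpace X := inferInstance
  have hdL : Curv2.deg k X (pencil κ) 1 = 2 := by
    refine (deg_pullback hdP κ hκ hκ2 hO).trans ?_
    rw [Curv2.deg, show Curv2.euler k (P 1 k) (Groth.L21.P1.O k 1) = 2 from Groth.L21.P1.euler_O (k := k) 1,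
      show Curv2.euler k (P 1 k) (Coh.structureModule (P 1 k)) = 1 from Groth.L21.P1.euler_structure k]
    norm_num
  rw [hdL] at hd1
  have hsurj : ∀ z, κ z ≠ κ x → Function.Surjective (st ψ z) := fun z hz => by
    refine (hιx.surjective_comp_iff (fun e => hz (by rw [e])) ψ).1 ?_
    rw [hψ]
    exact (key z).2 (hs _ hz)
  have hψx' : ¬ Function.Surjective (st ψ x') := by
    rcases hcase with hne | hall
    · intro hh
      refine htx' ?_
      rw [← hψ]
      exact (hιx.surjective_comp_iff hne ψ).2 hh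
    · intro hh
      obtain rfl : x' = x := hall x' hf
      haveI : Epi ψ := (Groth.L21.Mod.epi_iff_stalk_surjective ψ).2 fun z => by
        by_cases hz : κ z = κ x'
        · obtain rfl := hall z hz
          exact hh
        · exact hsurj z hz
      haveI := Groth.L03.InterLen.isIso_of_epi_invertible ψ (Groth.L18.Ample.isInvertible_structureModule X) hA1
      have hdO : Curv2.deg k X (Coh.structureModule X) 1 = 0 := Groth.L22.CurveDeg.deg_structure ..
      rw [Groth.L21.RR.deg_congr k (asIso ψ), hd1] at hdO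
      norm_num at hdO
  have hιx' := Groth.L21.RR.isMinusPt_twι hA1 hx'
  obtain ⟨ψ', hψ'⟩ := hιx'.exists_lift_section hA1 ψ hψx'
  obtain ⟨hA2, -, hd2, -, -, -⟩ := Groth.L21.RR.twist_point k hd hA1 hx'
  rw [hd1] at hd2
  have hne : ψ' ≠ 0 := fun h0 => by
    have ht0 : t = 0 := by rw [← hψ, ← hψ', h0, zero_comp, zero_comp]
    have hηη : κ (genericPoint X) ≠ κ x := by
      rw [Groth.L21.P1.map_genericPoint κ hd]
      exact fun e => Groth.L21.RR.ne_genericPoint_of_isClosed hdP hQ e.symm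
    obtain ⟨e, he⟩ := Groth.L21.RR.exists_frame_stalk hL (genericPoint X)
    obtain ⟨v, hv⟩ := (key (genericPoint X)).2 (hs _ hηη) e
    rw [ht0] at hv
    change st (0 : Coh.structureModule X ⟶ pencil κ) (genericPoint X) v = e at hv
    rw [st, Functor.map_zero] at hv
    obtain ⟨w, hw⟩ := (Groth.L21.RR.bijective_smul_one (genericPoint X)).2 v
    have h1 := he.1 (a₁ := (1 : X.presheaf.stalk (genericPoint X))) (a₂ := 0) (by
      show (1 : X.presheaf.stalk (genericPoint X)) • e = (0 : X.presheaf.stalk (genericPoint X)) • e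
      rw [one_smul, zero_smul]; exact hv.symm)
    exact one_ne_zero h1
  obtain ⟨hdeg, hiso⟩ := Groth.L22.CurveDeg.deg_add k hd.le
    (Groth.L18.Ample.isInvertible_structureModule X) hA2 hne
  rw [hd2, Groth.L22.CurveDeg.deg_structure] at hdeg
  haveI := hiso (by omega)
  exact ⟨(asIso ψ').symm⟩

variable (μ : X ⟶ P 1 k) [IsFinite μ] [Flat μ] (hμ : μ ≫ pr 1 k = X ↘ Spec (CommRingCat.of k))
  (hμ2 : ∀ y : P 1 k, μ.finrank y = 2)

include hd hg hκ hκ2 hμ hμ2 in
/-- Double covers with a common branch point have the same fibres. -/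
theorem eq_of_fibre_eq {r : X} (hr : IsClosed ({r} : Set X)) (hκr : ∀ z, κ z = κ r → z = r)
    (hμr : ∀ z, μ z = μ r → z = r) (x x' : X) (hff : κ x' = κ x) : μ x' = μ x := by
  haveI := Groth.L21.RR.isNoetherian_of_proper (X := X) k
  by_cases hne : x' = x
  · rw [hne]
  have hdP : topologicalKrullDim (P 1 k) = 1 := Groth.L21.P1.topologicalKrullDim_eq (k := k)
  have huniq : ∀ z, κ z = genericPoint (P 1 k) → z = genericPoint X := fun z he =>
    (Groth.L19.GenericFinite.eq_of_specializes_of_quasiFiniteAt κ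
      (Groth.L19.GenericFinite.quasiFiniteAt_of_finite_fibre κ _ (κ.finite_preimage_singleton _))
      ((genericPoint_spec X).specializes (y := z) trivial)
      ((Groth.L21.P1.map_genericPoint κ hd).trans he.symm)).symm
  have hx : IsClosed ({x} : Set X) := by
    by_contra hn
    have hxη := Groth.L21.RR.eq_genericPoint_of_not_isClosed hd.le hn
    have h1 : κ x' = genericPoint (P 1 k) := hff.trans (hxη ▸ Groth.L21.P1.map_genericPoint κ hd)
    exact hne (by rw [huniq x' h1, hxη])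
  have hx' := isClosed_of_eq_fibre κ hx hff
  obtain ⟨iκ⟩ := pencil_residual hd hg κ hκ hκ2 hr hr rfl (Or.inr hκr)
  obtain ⟨iμ⟩ := pencil_residual hd hg μ hμ hμ2 hr hr rfl (Or.inr hμr)
  obtain ⟨iL⟩ := nonempty_iso_of_tensor_inverse ((tensorAssoc (pencil κ) _ _).symm ≪≫ iκ)
    ((tensorAssoc (pencil μ) _ _).symm ≪≫ iμ)
  obtain ⟨i⟩ := pencil_residual hd hg κ hκ hκ2 hx hx' hff (Or.inl hne)
  have key : ∀ {z : X} (hz : IsClosed ({z} : Set X)), (μ z = μ x) → (z ≠ x ∨ ∀ w, μ w = μ x → w = x) → z = x' := by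
    intro z hz hgz hc
    obtain ⟨j⟩ := pencil_residual hd hg μ hμ hμ2 hx hz hgz hc
    obtain ⟨e⟩ := nonempty_iso_of_tensor_inverse (A := ptI z hz) (A' := ptI x' hx')
      (B := CohB1.tensorMod (pencil μ) (ptI x hx)) (tensorComm _ _ ≪≫ j)
      (tensorComm _ _ ≪≫ tensorIso (tensorIso iL.symm (Iso.refl _)) (Iso.refl _) ≪≫ i)
    exact (eq_of_iso_ptI hd hg hx' hz e).symm
  by_cases hall : ∀ w, μ w = μ x → w = x
  · exact absurd (key hx rfl (Or.inr hall)).symm hne
  push Not at hall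
  obtain ⟨z, hz, hzx⟩ := hall
  rw [← key (isClosed_of_eq_fibre μ hx hz) hz (Or.inl hzx)]
  exact hz

include hd hg hκ hκ2 in
/-- A double cover of the line has a branch point. -/
theorem exists_branch_point (h2 : (2 : k) ≠ 0) :
    ∃ r : X, IsClosed ({r} : Set X) ∧ ∀ z, κ z = κ r → z = r := by
  letI : (P 1 k).Over (Spec (CommRingCat.of k)) := ⟨pr 1 k⟩
  haveI : IsProper ((P 1 k) ↘ Spec (CommRingCat.of k)) := inferInstanceAs (IsProper (pr 1 k))
  haveI := Groth.L21.RR.isNoetherian_of_proper (X := X) k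
  haveI := Groth.L21.RR.isNoetherian_of_proper (X := P 1 k) k
  haveI : LocallyOfFinitePresentation κ := inferInstance
  haveI : ConnectedSpace X := inferInstance
  have h2P : IsUnit (2 : Γ(P 1 k, ⊤)) := Groth.L12.HypInvol.isUnit_two_sections h2
  obtain ⟨σ, hσf, hσ2, hQ⟩ := Groth.Agent.L13.DblCov.exists_involution κ hκ2 h2P
  have hI : Groth.L12.SymSq.InvQuot κ σ.hom := Groth.L12.HypInvol.invQuot_of_isQuot hσ2 hQ h2P
  have hσp : σ.hom ≫ (X ↘ Spec (CommRingCat.of k)) = X ↘ Spec (CommRingCat.of k) := by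
    rw [← hκ, ← Category.assoc, hσf]
  have hσ1 : σ.hom ≠ 𝟙 X := by
    intro e
    have hs : ∀ U : (P 1 k).Opens, Function.Bijective (κ.app U).hom := fun U =>
      ⟨hI.injective U, fun s => hI.range U s (by
        rw [Groth.L27.Quot.appLE_eq_of_eq e]
        simp [Scheme.Hom.appLE]
        exact congr($(X.presheaf.map_id (op (κ ⁻¹ᵁ U))) s))⟩
    haveI : IsIso κ := by
      change MorphismProperty.isomorphisms Scheme κ
      rw [HasAffineProperty.iff_of_iSup_eq_top (P := MorphismProperty.isomorphisms Scheme)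
        (fun U : (P 1 k).affineOpens => U) (iSup_affineOpens_eq_top _)]
      intro U
      refine ⟨U.2.preimage κ, ?_⟩
      haveI : ∀ V, IsIso (κ.app V) := fun V => (ConcreteCategory.isIso_iff_bijective _).2 (hs V)
      rw [morphismRestrict_appTop]
      infer_instance
    have h1 := (Scheme.Hom.isIso_iff_finrank_eq κ).1 inferInstance
    have h12 := congrFun h1 (genericPoint (P 1 k))
    rw [hκ2] at h12
    simp at h12
  have hinvol : σ.hom ≫ σ.hom = 𝟙 X := congrArg Iso.hom hσ2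
  haveI : Finite (Subgroup.zpowers σ) := by
    refine ((isOfFinOrder_iff_pow_eq_one).2 ⟨2, by norm_num, ?_⟩).finite_zpowers.to_subtype
    rw [pow_two, hσ2]
  have hsurj : Function.Surjective κ := Groth.L27.Quot.surjective hQ
  have hfour := Groth.L12.HypInvol.four_mul_genus (k := k) Groth.L21.P1.topologicalKrullDim_eq hI hκ
    (Groth.L12.HypInvol.isFixedScheme_fix hσp)
    (Groth.L12.HypInvol.isInvertible_fix hσp hσ1 hd) hsurj hd.le
  have hgP : (Curv2.genus k (P 1 k) : ℤ) = 0 := by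
    have := Groth.L21.P1.euler_structure k
    rw [Groth.L21.RR.euler_eq k (Groth.L21.P1.topologicalKrullDim_le k),
      Groth.L22.CurveDeg.h0_structure_eq_one k] at this
    change (1 : ℤ) - (Curv2.genus k (P 1 k) : ℤ) = 1 at this
    omega
  rw [Groth.L12.HypInvol.deg_fix hσp hσ1 hd hinvol h2, Groth.L12.HypInvol.card_fix hσp hσ1 hd, hgP, hg] at hfour
  obtain ⟨⟨r, hr, hσr⟩⟩ : Nonempty {x : X // IsClosed ({x} : Set X) ∧ σ.hom x = x} := by
    refine (Nat.card_pos_iff.1 ?_).1
    push_cast at hfour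
    omega
  refine ⟨r, hr, fun z hz => ?_⟩
  obtain ⟨⟨g, hg'⟩, hgz⟩ := Groth.L27.Quot.exists_eq_of_map_eq hQ hz.symm
  obtain ⟨n, rfl⟩ := Subgroup.mem_zpowers_iff.mp hg'
  rcases Int.emod_two_eq n with e | e
  all_goals
    rw [← hgz]
    show (σ ^ n).hom r = r
    rw [← Int.mul_ediv_add_emod n 2, zpow_add, zpow_mul, zpow_two, hσ2, one_zpow, one_mul, e]
  · rw [zpow_zero]; rfl
  · rw [zpow_one]; exact hσr

open MonoidalCategory CartesianMonoidalCategory MonObj in
include hd hg in
/-- Automorphisms act transitively on the closed points. -/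
theorem exists_translation {a b : X} (ha : IsClosed ({a} : Set X)) (hb : IsClosed ({b} : Set X)) :
    ∃ σ : X ≅ X, σ.hom ≫ (X ↘ Spec (CommRingCat.of k)) = X ↘ Spec (CommRingCat.of k) ∧ σ.hom a = b := by
  let p := X ↘ Spec (CommRingCat.of k)
  haveI : ConnectedSpace X := inferInstance
  haveI : GeometricallyIntegral p := Groth.L08.Cube.geometricallyIntegral_of_isAlgClosed p
  let A : 𝟙_ (Over (Spec (CommRingCat.of k))) ⟶ Over.mk p :=
    Over.homMk (pointOfClosedPoint p a ha) (pointOfClosedPoint_comp _ _ _)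
  let B : 𝟙_ (Over (Spec (CommRingCat.of k))) ⟶ Over.mk p :=
    Over.homMk (pointOfClosedPoint p b hb) (pointOfClosedPoint_comp _ _ _)
  obtain ⟨G, hone, -⟩ := Groth.Agent.Elliptic.exists_commGrpObj p hd hg A
  letI := G
  let T : (𝟙_ (Over (Spec (CommRingCat.of k))) ⟶ Over.mk p) → (Over.mk p ⟶ Over.mk p) :=
    fun t => (toUnit (Over.mk p) ≫ t) * 𝟙 (Over.mk p)
  have hT : ∀ t t', T t ≫ T t' = T (t' * t) := fun t t' => by
    simp only [T]
    rw [MonObj.comp_mul, comp_toUnit_assoc, Category.comp_id, MonObj.comp_mul, _root_.mul_assoc]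
  have hT1 : T 1 = 𝟙 (Over.mk p) := by simp only [T]; rw [MonObj.comp_one, _root_.one_mul]
  have hA1 : A = 1 := by
    rw [← hone, Hom.one_def, toUnit_unit, Category.id_comp]
  have hAT : A ≫ T B = B := by
    simp only [T]
    rw [MonObj.comp_mul, Category.comp_id, comp_toUnit_assoc, toUnit_unit, Category.id_comp, hA1, _root_.mul_one]
  refine ⟨⟨(T B).left, (T B⁻¹).left, ?_, ?_⟩, Over.w (T B), ?_⟩
  · exact congrArg (fun m => m.left) ((hT _ _).trans (by rw [inv_mul_cancel, hT1]) : T B ≫ T B⁻¹ = 𝟙 _)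
  · exact congrArg (fun m => m.left) ((hT _ _).trans (by rw [mul_inv_cancel, hT1]) : T B⁻¹ ≫ T B = 𝟙 _)
  · have h := congrArg (fun m : 𝟙_ (Over (Spec (CommRingCat.of k))) ⟶ Over.mk p =>
      m.left (IsLocalRing.closedPoint k)) hAT
    show (T B).left a = b
    conv_lhs => rw [← pointOfClosedPoint_apply p a ha (IsLocalRing.closedPoint k)]
    conv_rhs => rw [← pointOfClosedPoint_apply p b hb (IsLocalRing.closedPoint k)]
    exact h

include hd hg hκ hκ2 hμ hμ2 in
/-- Two double covers of the line differ by automorphisms. -/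
theorem exists_aut_comp_eq (h2 : (2 : k) ≠ 0) :
    ∃ (σ : X ≅ X) (τ : P 1 k ≅ P 1 k), σ.hom ≫ (X ↘ Spec (CommRingCat.of k)) = X ↘ Spec (CommRingCat.of k) ∧
      τ.hom ≫ pr 1 k = pr 1 k ∧ σ.hom ≫ μ = κ ≫ τ.hom := by
  letI : (P 1 k).Over (Spec (CommRingCat.of k)) := ⟨pr 1 k⟩
  haveI : IsProper ((P 1 k) ↘ Spec (CommRingCat.of k)) := inferInstanceAs (IsProper (pr 1 k))
  haveI : IsIntegral (P 1 k) := Groth.L16.ProjSpace.isIntegral (n := 1) (R := k)
  haveI := Groth.L21.RR.isNoetherian_of_proper (X := P 1 k) k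
  obtain ⟨a, ha, haκ⟩ := exists_branch_point hd hg κ hκ hκ2 h2
  obtain ⟨b, hb, hbμ⟩ := exists_branch_point hd hg μ hμ hμ2 h2
  obtain ⟨σ, hσ, hσa⟩ := exists_translation hd hg ha hb
  let ν := σ.hom ≫ μ
  have hν : ν ≫ pr 1 k = X ↘ Spec (CommRingCat.of k) := by rw [Category.assoc, hμ, hσ]
  have hν2 : ∀ y, ν.finrank y = 2 := fun y => by
    show Scheme.Hom.finrank (σ.hom ≫ μ) y = 2
    rw [Scheme.Hom.finrank_comp_left_of_isIso, hμ2]
  have haν : ∀ z, ν z = ν a → z = a := fun z hz => by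
    have h1 : μ (σ.hom z) = μ b := by rw [← hσa]; exact hz
    exact σ.hom.homeomorph.injective ((hbμ _ h1).trans hσa.symm)
  haveI : LocallyOfFinitePresentation κ := inferInstance
  haveI : LocallyOfFinitePresentation ν := inferInstance
  obtain ⟨e, he⟩ := exists_factor κ ν hκ hν hκ2 h2
    fun x x' h => eq_of_fibre_eq hd hg κ hκ hκ2 ν hν hν2 ha haκ haν x x' h
  obtain ⟨e', he'⟩ := exists_factor ν κ hν hκ hν2 h2
    fun x x' h => eq_of_fibre_eq hd hg ν hν hν2 κ hκ hκ2 ha haν haκ x x' h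
  haveI : Surjective κ := (Scheme.Hom.one_le_finrank_iff_surjective κ).1 fun y => by
    show 1 ≤ κ.finrank y
    rw [hκ2 y]; omega
  haveI : Surjective ν := (Scheme.Hom.one_le_finrank_iff_surjective ν).1 fun y => by
    show 1 ≤ ν.finrank y
    rw [hν2 y]; omega
  haveI : Epi κ := Flat.epi_of_flat_of_surjective κ
  haveI : Epi ν := Flat.epi_of_flat_of_surjective ν
  refine ⟨σ, ⟨e, e', ?_, ?_⟩, hσ, ?_, he.symm⟩
  · rw [← cancel_epi κ, reassoc_of% he, he', Category.comp_id]
  · rw [← cancel_epi ν, reassoc_of% he', he, Category.comp_id]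
  · rw [← cancel_epi κ, reassoc_of% he, hν, hκ]

end Groth.L21.CastSev
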