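import Groth.Agent.L13.DblCovScheme
import Groth.Agent.L21.RR.Point
import Groth.Prelude.Def_CurvBase
import Mathlib.AlgebraicGeometry.Morphisms.Flat
import Mathlib.AlgebraicGeometry.Morphisms.Proper
import Mathlib.AlgebraicGeometry.Morphisms.Affine
import Mathlib.Topology.JacobsonSpace

/-!
A morphism which is constant on the fibres of a double cover factors through it.
-/

set_option autoImplicit false
set_option backward.isDefEq.respectTransparency false
set_option linter.style.haveILetI false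
universe u

open CategoryTheory CategoryTheory.Limits AlgebraicGeometry TopologicalSpace Opposite

noncomputable section

namespace Groth.L21.CastSev

variable {k : Type u} [Field k] {X P Q : Scheme.{u}} [X.Over (Spec (CommRingCat.of k))]
  [P.Over (Spec (CommRingCat.of k))] [Q.Over (Spec (CommRingCat.of k))]

variable (k) in
/-- A constant on an open. -/
def cst (Y : Scheme.{u}) [Y.Over (Spec (CommRingCat.of k))] (V : Y.Opens) (c : k) : Γ(Y, V) :=
  (Y.presheaf.map (homOfLE (le_top : V ≤ ⊤)).op).hom (Coh.toGlobal (Y ↘ Spec (CommRingCat.of k)) c)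

theorem appLE_cst (g : X ⟶ Q) (hg : g ≫ (Q ↘ Spec (CommRingCat.of k)) = X ↘ Spec (CommRingCat.of k))
    (V : Q.Opens) (W : X.Opens) (e : W ≤ g ⁻¹ᵁ V) (c : k) :
    (g.appLE V W e).hom (cst k Q V c) = cst k X W c := by
  have h1 : g.app ⊤ (Coh.toGlobal (Q ↘ Spec (CommRingCat.of k)) c) =
      Coh.toGlobal (X ↘ Spec (CommRingCat.of k)) c := by
    have h2 : (Q ↘ Spec (CommRingCat.of k)).appTop ≫ g.appTop = (X ↘ Spec (CommRingCat.of k)).appTop := by
      rw [← Scheme.Hom.comp_appTop, hg]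
    exact congr($(h2) ((Scheme.ΓSpecIso (CommRingCat.of k)).inv c))
  rw [cst, cst, ← h1]
  exact congr($(Scheme.Hom.map_appLE g e (homOfLE (le_top : V ≤ ⊤)).op) (Coh.toGlobal (Q ↘ Spec (CommRingCat.of k)) c))

/-- The functions fixed by the conjugations of a double cover come from the base. -/
def Sep {X P : Scheme.{u}} (f : X ⟶ P) : Prop :=
  ∀ (W : {W : P.Opens // Groth.Agent.L13.DblCov.Good f W}) (b : Γ(X, f ⁻¹ᵁ W.1)),
    Groth.Agent.L13.DblCov.conjOn f W b = b → b ∈ (f.app W.1).hom.range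

open Groth.Agent.L13.DblCov in
/-- A double cover over a field of characteristic other than two is separable. -/
theorem sep_of_two (f : X ⟶ P) [IsFinite f] (h2 : (2 : k) ≠ 0) : Sep f := fun W => by
  refine (conjOn_spec f W).2.2 ?_
  have := ((isUnit_iff_ne_zero.2 h2).map (Coh.toGlobal (P ↘ Spec (CommRingCat.of k)))).map
    (P.presheaf.map (homOfLE (le_top : W.1 ≤ ⊤)).op).hom
  rwa [map_ofNat, map_ofNat] at this

variable [IsAlgClosed k] [IsIntegral X] [IsProper (X ↘ Spec (CommRingCat.of k))]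
  [IsProper (Q ↘ Spec (CommRingCat.of k))] [IsIntegral P]
  (f : X ⟶ P) [IsFinite f] [Flat f] [LocallyOfFinitePresentation f]
  (g : X ⟶ Q)

open Groth.Agent.L13.DblCov in
/-- Functions pulled back by a map constant on the fibres come from the base. -/
theorem mem_range_app' (hf : f ≫ (P ↘ Spec (CommRingCat.of k)) = X ↘ Spec (CommRingCat.of k))
    (hg : g ≫ (Q ↘ Spec (CommRingCat.of k)) = X ↘ Spec (CommRingCat.of k))
    (hsep : Sep f) (hc : ∀ x x' : X, f x' = f x → g x' = g x) (W : {W : P.Opens // Good f W})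
    (V : Q.Opens) (e : f ⁻¹ᵁ W.1 ≤ g ⁻¹ᵁ V) (t : Γ(Q, V)) :
    (g.appLE V (f ⁻¹ᵁ W.1) e).hom t ∈ (f.app W.1).hom.range := by
  haveI : IsProper g := by
    haveI : IsProper (g ≫ (Q ↘ Spec (CommRingCat.of k))) := hg ▸ inferInstance
    exact IsProper.of_comp g (Q ↘ Spec (CommRingCat.of k))
  obtain ⟨hσ, -, -⟩ := conjOn_spec f W
  set σ := conjOn f W
  set a : Γ(X, f ⁻¹ᵁ W.1) := (g.appLE V (f ⁻¹ᵁ W.1) e).hom t
  refine hsep W a ?_
  by_contra hne
  have hW' : IsAffineOpen (f ⁻¹ᵁ W.1) := W.2.1.preimage f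
  have hb : a - σ a ≠ 0 := sub_ne_zero.2 (Ne.symm hne)
  haveI : JacobsonSpace X := LocallyOfFiniteType.jacobsonSpace (X ↘ Spec (CommRingCat.of k))
  obtain ⟨x, hxb, hx⟩ := nonempty_inter_closedPoints (Z := (X.basicOpen (a - σ a) : Set X))
    (by
      by_contra hemp
      exact hb (basicOpen_eq_bot_iff (a - σ a) |>.1 (TopologicalSpace.Opens.ext
        (Set.not_nonempty_iff_eq_empty.1 hemp))))
    (X.basicOpen (a - σ a)).2.isLocallyClosed
  have hxW : x ∈ f ⁻¹ᵁ W.1 := X.basicOpen_le _ hxb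
  let p := hW'.primeIdealOf ⟨x, hxW⟩
  let p' : PrimeSpectrum Γ(X, f ⁻¹ᵁ W.1) := PrimeSpectrum.comap σ p
  let x' : X := hW'.fromSpec p'
  have key : ∀ (q : Spec Γ(X, f ⁻¹ᵁ W.1)) (z : Γ(X, f ⁻¹ᵁ W.1)),
      hW'.fromSpec q ∈ X.basicOpen z ↔ z ∉ q.asIdeal := fun q z => by
    show q ∈ hW'.fromSpec ⁻¹ᵁ X.basicOpen z ↔ _
    rw [hW'.fromSpec_preimage_basicOpen]
    exact PrimeSpectrum.mem_basicOpen z q
  have hpx : hW'.fromSpec p = x := hW'.fromSpec_primeIdealOf ⟨x, hxW⟩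
  have hx'W : x' ∈ f ⁻¹ᵁ W.1 := by
    rw [← SetLike.mem_coe, ← hW'.range_fromSpec]
    exact ⟨p', rfl⟩
  have hff : f x' = f x := by
    have hA : ∀ r : Γ(P, W.1), (f x' ∈ P.basicOpen r ↔ f x ∈ P.basicOpen r) := fun r => by
      show x' ∈ f ⁻¹ᵁ P.basicOpen r ↔ x ∈ f ⁻¹ᵁ P.basicOpen r
      rw [Scheme.preimage_basicOpen, ← hpx]
      refine (key p' _).trans (Iff.trans ?_ (key p _).symm)
      show ¬ σ _ ∈ p.asIdeal ↔ _
      rw [hσ.fix r]
    have hW := W.2.1
    have h1 := hW.primeIdealOf ⟨f x', hx'W⟩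
    suffices hW.primeIdealOf ⟨f x', hx'W⟩ = hW.primeIdealOf ⟨f x, hxW⟩ by
      have := congrArg (fun q => hW.fromSpec q) this
      simp only [hW.fromSpec_primeIdealOf] at this
      exact this
    refine PrimeSpectrum.ext (Ideal.ext fun r => not_iff_not.1 ?_)
    have hA' : ∀ (q : Spec Γ(P, W.1)), hW.fromSpec q ∈ P.basicOpen r ↔ r ∉ q.asIdeal := fun q => by
      show q ∈ hW.fromSpec ⁻¹ᵁ P.basicOpen r ↔ _
      rw [hW.fromSpec_preimage_basicOpen]
      exact PrimeSpectrum.mem_basicOpen r q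
    rw [← hA', ← hA', hW.fromSpec_primeIdealOf, hW.fromSpec_primeIdealOf]
    exact hA r
  have hgg : g x' = g x := hc x x' hff
  have hqV : g x ∈ V := e hxW
  have hqc : IsClosed ({g x} : Set Q) := by
    simpa using g.isClosedMap _ hx
  obtain ⟨c, hcq⟩ := Groth.L21.RR.isRat_of_isClosed k hqc (Q.presheaf.germ V (g x) hqV t)
  let d : Γ(Q, V) := t - cst k Q V c
  have hd : g x ∉ Q.basicOpen d := by
    rw [Scheme.mem_basicOpen _ _ _ hqV, map_sub]
    intro hu'
    refine (IsLocalRing.mem_maximalIdeal _).1 hcq ?_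
    rwa [show Groth.L21.RR.cstAt k (g x) c = Q.presheaf.germ V (g x) hqV (cst k Q V c) from
      (TopCat.Presheaf.germ_res_apply Q.presheaf (homOfLE (le_top : V ≤ ⊤)) (g x) hqV _).symm]
  have hmem : ∀ z : X, g z = g x → z ∉ X.basicOpen (a - cst k X (f ⁻¹ᵁ W.1) c) := fun z hz hzb => by
    have hae : a - cst k X (f ⁻¹ᵁ W.1) c = (g.appLE V (f ⁻¹ᵁ W.1) e).hom d := by
      rw [map_sub, appLE_cst g hg]
    rw [hae, Scheme.Hom.appLE, CommRingCat.comp_apply, Scheme.basicOpen_res, ← Scheme.preimage_basicOpen] at hzb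
    exact hd (hz ▸ hzb.2)
  have hσc : σ (cst k X (f ⁻¹ᵁ W.1) c) = cst k X (f ⁻¹ᵁ W.1) c := by
    rw [← appLE_cst f hf W.1 (f ⁻¹ᵁ W.1) le_rfl c, ← Scheme.Hom.app_eq_appLE]
    exact hσ.fix _
  have hp1 : a - cst k X (f ⁻¹ᵁ W.1) c ∈ p.asIdeal := by
    by_contra hn
    exact hmem x rfl (hpx ▸ (key p _).2 hn)
  have hp2 : σ (a - cst k X (f ⁻¹ᵁ W.1) c) ∈ p.asIdeal := by
    by_contra hn
    exact hmem x' hgg ((key p' _).2 hn)
  rw [map_sub, hσc] at hp2
  have := p.asIdeal.sub_mem hp1 hp2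
  rw [sub_sub_sub_cancel_right] at this
  exact (key p _).1 (hpx.symm ▸ hxb) this

open Groth.Agent.L13.DblCov in
/-- The descended morphism. -/
theorem exists_factor' (hf : f ≫ (P ↘ Spec (CommRingCat.of k)) = X ↘ Spec (CommRingCat.of k))
    (hg : g ≫ (Q ↘ Spec (CommRingCat.of k)) = X ↘ Spec (CommRingCat.of k))
    (hrk : ∀ y : P, f.finrank y = 2) (hsep : Sep f) (hc : ∀ x x' : X, f x' = f x → g x' = g x) :
    ∃ e : P ⟶ Q, f ≫ e = g := by
  haveI : IsProper g := by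
    haveI : IsProper (g ≫ (Q ↘ Spec (CommRingCat.of k))) := hg ▸ inferInstance
    exact IsProper.of_comp g (Q ↘ Spec (CommRingCat.of k))
  haveI : Surjective f := (Scheme.Hom.one_le_finrank_iff_surjective f).1 fun y => by
    show 1 ≤ f.finrank y
    rw [hrk y]; omega
  have hloc : ∀ y : P, ∃ (W : P.Opens) (eW : W.toScheme ⟶ Q), y ∈ W ∧ (f ∣_ W) ≫ eW = (f ⁻¹ᵁ W).ι ≫ g := by
    intro y
    obtain ⟨x₀, hx₀⟩ := f.surjective y
    obtain ⟨_, ⟨V, hV, rfl⟩, hqV, -⟩ := Q.isBasis_affineOpens.exists_subset_of_mem_open (Set.mem_univ (g x₀)) isOpen_univ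
    let U : P.Opens := ⟨(f '' ((g ⁻¹ᵁ V : X.Opens) : Set X)ᶜ)ᶜ,
      (f.isClosedMap _ (g ⁻¹ᵁ V).2.isClosed_compl).isOpen_compl⟩
    have hyU : y ∈ U := by
      rintro ⟨x, hx, hxy⟩
      exact hx (show g x ∈ V by rw [hc x₀ x (hxy.trans hx₀.symm)]; exact hqV)
    obtain ⟨W, hW, hyW, hWU⟩ := exists_good f hrk y U hyU
    have e : f ⁻¹ᵁ W ≤ g ⁻¹ᵁ V := fun x hx => by
      by_contra hn
      exact hWU hx ⟨x, hn, rfl⟩
    have hinj : Function.Injective (f.app W).hom := by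
      obtain ⟨θ, hθ⟩ := hW.2
      exact fun a b hab => (hθ.eq (y := 0) (y' := 0) (by rw [hab])).1
    let E := RingEquiv.ofBijective (f.app W).hom.rangeRestrict
          ⟨fun a b hab => hinj (congrArg Subtype.val hab), RingHom.rangeRestrict_surjective _⟩
    let ρ₀ : Γ(Q, V) →+* Γ(P, W) :=
      E.symm.toRingHom.comp
        ((g.appLE V (f ⁻¹ᵁ W) e).hom.codRestrict _ (mem_range_app' f g hf hg hsep hc ⟨W, hW⟩ V e))
    have hρ : CommRingCat.ofHom ρ₀ ≫ f.app W = g.appLE V (f ⁻¹ᵁ W) e := by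
      refine CommRingCat.hom_ext (RingHom.ext fun t => ?_)
      exact congrArg Subtype.val (E.apply_symm_apply ((g.appLE V (f ⁻¹ᵁ W) e).hom.codRestrict _ (mem_range_app' f g hf hg hsep hc ⟨W, hW⟩ V e) t))
    have hWa : IsAffineOpen W := hW.1
    refine ⟨W, hWa.isoSpec.hom ≫ Spec.map (CommRingCat.ofHom ρ₀) ≫ hV.fromSpec, hyW, ?_⟩
    have hW' := hWa.preimage f
    have e1 : f ∣_ W ≫ hWa.isoSpec.hom = hW'.isoSpec.hom ≫ Spec.map (f.app W) := by
      rw [← cancel_mono hWa.isoSpec.inv, ← cancel_mono W.ι]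
      simp only [Category.assoc, Iso.hom_inv_id_assoc, morphismRestrict_ι,
        IsAffineOpen.isoSpec_inv_ι, IsAffineOpen.isoSpec_inv_ι_assoc]
      rw [Scheme.Hom.app_eq_appLE, hWa.SpecMap_appLE_fromSpec f hW' le_rfl,
        IsAffineOpen.isoSpec_hom_fromSpec_assoc, IsAffineOpen.isoSpec_hom_fromSpec, morphismRestrict_ι]
    rw [reassoc_of% e1, ← Spec.map_comp_assoc, hρ, hV.SpecMap_appLE_fromSpec g hW' e,
      IsAffineOpen.isoSpec_hom_fromSpec_assoc]
  choose W eW hyW heW using hloc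
  have hcov : IsOpenCover W :=
    eq_top_iff.2 fun y _ => Opens.mem_iSup.2 ⟨y, hyW y⟩
  let 𝒰 := P.openCoverOfIsOpenCover W hcov
  have hcomp : ∀ i j, pullback.fst (𝒰.f i) (𝒰.f j) ≫ eW i = pullback.snd (𝒰.f i) (𝒰.f j) ≫ eW j := by
    intro i j
    let t := pullback.fst (W i).ι (W j).ι ≫ (W i).ι
    haveI : Surjective (pullback.snd f t) :=
      MorphismProperty.pullback_snd (P := @Surjective) f t inferInstance
    haveI : Epi (pullback.snd f t) := Flat.epi_of_flat_of_surjective _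
    refine (cancel_epi (pullback.snd f t)).1 ?_
    have aux : ∀ (l : P) (w : (pullback f t) ⟶ (W l).toScheme),
        w ≫ (W l).ι = pullback.fst f t ≫ f → w ≫ eW l = pullback.fst f t ≫ g := fun l w hw => by
      let w' : pullback f t ⟶ (f ⁻¹ᵁ W l).toScheme :=
        (isPullback_morphismRestrict f (W l)).lift w (pullback.fst f t) hw
      have h1 : w' ≫ f ∣_ W l = w := IsPullback.lift_fst _ _ _ _
      have h2 : w' ≫ (f ⁻¹ᵁ W l).ι = pullback.fst f t := IsPullback.lift_snd _ _ _ _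
      rw [← h1, Category.assoc, heW, reassoc_of% h2]
    refine (Category.assoc _ _ _).symm.trans ((aux i (pullback.snd f t ≫ pullback.fst _ _) ?_).trans
      ((aux j (pullback.snd f t ≫ pullback.snd _ _) ?_).symm.trans (Category.assoc _ _ _)))
    · rw [Category.assoc]; exact pullback.condition.symm
    · rw [Category.assoc]
      refine Eq.trans ?_ pullback.condition.symm
      exact congrArg (pullback.snd f t ≫ ·) pullback.condition.symm
  refine ⟨𝒰.glueMorphisms eW hcomp, ?_⟩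
  refine (X.openCoverOfIsOpenCover (fun y => f ⁻¹ᵁ W y) ?_).hom_ext _ _ fun y => ?_
  · exact eq_top_iff.2 fun x _ => Opens.mem_iSup.2 ⟨f x, hyW (f x)⟩
  · show (f ⁻¹ᵁ W y).ι ≫ f ≫ 𝒰.glueMorphisms eW hcomp = (f ⁻¹ᵁ W y).ι ≫ g
    rw [← morphismRestrict_ι_assoc]
    refine Eq.trans ?_ (heW y)
    exact congrArg (f ∣_ W y ≫ ·) (𝒰.ι_glueMorphisms eW hcomp y)

/-- The descended morphism in characteristic other than two. -/
theorem exists_factor (hf : f ≫ (P ↘ Spec (CommRingCat.of k)) = X ↘ Spec (CommRingCat.of k))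
    (hg : g ≫ (Q ↘ Spec (CommRingCat.of k)) = X ↘ Spec (CommRingCat.of k))
    (hrk : ∀ y : P, f.finrank y = 2) (h2 : (2 : k) ≠ 0) (hc : ∀ x x' : X, f x' = f x → g x' = g x) :
    ∃ e : P ⟶ Q, f ≫ e = g :=
  exists_factor' f g hf hg hrk (sep_of_two f h2) hc

end Groth.L21.CastSev
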