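import Groth.Agent.L21.CastSev.Immersion
import Groth.Agent.L21.Duality.Secant
import Groth.Agent.L21.RR.Sections
import Groth.Agent.L21.InvHom
import Groth.Agent.L21.Bundle.Lines
import Groth.Agent.L21.RR.TwoPoints
import Mathlib.AlgebraicGeometry.AlgClosed.Basic

/-!
In the equality case the quotient curves carry a pencil of degree two.
-/

set_option autoImplicit false
set_option backward.isDefEq.respectTransparency false
set_option linter.style.haveILetI false
universe u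

open CategoryTheory CategoryTheory.Limits AlgebraicGeometry TopologicalSpace Opposite

noncomputable section

namespace Groth.L21.CastSev

open Groth.L21.RR (st one oneSec h ptI)
open Groth.L18.Ample (pullHom)
open Groth.L00.Tensor (tensorAssoc tensorComm tensorIso tensorUnitRight)

theorem pullHom_comp {X Q : Scheme.{u}} (g : X ⟶ Q) {A L : Q.Modules} (a : Coh.structureModule Q ⟶ A) (ι : A ⟶ L) :
    pullHom g a ≫ (Scheme.Modules.pullback g).map ι = pullHom g (a ≫ ι) := by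
  refine Groth.L21.RR.hom_ext_one ?_
  show ((Scheme.Modules.pullback g).map ι).app ⊤ (Groth.L18.GenLoc.secOf (pullHom g a)) =
    Groth.L18.GenLoc.secOf (pullHom g (a ≫ ι))
  rw [pullHom, pullHom, Groth.L18.GenLoc.secOf_homOfSection, Groth.L18.GenLoc.secOf_homOfSection]
  exact Groth.L18.Ample.map_pull g ι ⊤ _

theorem c₀_push_map {X P : Scheme.{u}} (f : X ⟶ P) {A M : X.Modules} (Ψ : A ⟶ M) (z : X)
    (v : ((Scheme.Modules.pushforward f).obj A).presheaf.stalk (f z)) :
    Groth.L17.ClosedPush.c₀ f M z (st ((Scheme.Modules.pushforward f).map Ψ) (f z) v) =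
      st Ψ z (Groth.L17.ClosedPush.c₀ f A z v) := by
  obtain ⟨U, hU, m, rfl⟩ := TopCat.Presheaf.exists_germ_eq ((Scheme.Modules.pushforward f).obj A).presheaf v
  rw [Groth.L21.RR.st_germ]
  refine (Groth.L17.ClosedPush.c₀_germ f M z hU _).trans ?_
  refine Eq.trans ?_ (congrArg (st Ψ z) (Groth.L17.ClosedPush.c₀_germ f A z hU m).symm)
  exact (Groth.L21.RR.st_germ Ψ (show z ∈ f ⁻¹ᵁ U from hU) m).symm

theorem st_biprod_dec {P : Scheme.{u}} {A B : P.Modules} (y : P) (w : (A ⊞ B : P.Modules).presheaf.stalk y) :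
    w = st (biprod.inl : A ⟶ A ⊞ B) y (st biprod.fst y w) + st (biprod.inr : B ⟶ A ⊞ B) y (st biprod.snd y w) := by
  rw [← Groth.L21.RR.st_comp, ← Groth.L21.RR.st_comp, ← Groth.L22.CurveDeg.Det.st_add, biprod.total,
    Groth.L22.CurveDeg.Det.st_id]

/-- The map induced on the cokernel of a common section is mono. -/
theorem mono_desc {P : Scheme.{u}} {O K M : P.Modules} (α : O ⟶ K) (Φ : K ⟶ M) [Mono Φ] (σ τ : O ⟶ M)
    [IsIso (biprod.desc σ τ)] (hσ : α ≫ Φ = σ) (h : α ≫ Φ ≫ inv (biprod.desc σ τ) ≫ biprod.snd = 0) :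
    Mono (cokernel.desc α (Φ ≫ inv (biprod.desc σ τ) ≫ biprod.snd) h) := by
  refine (Groth.L21.Mod.mono_iff_stalk_injective _).2 fun y => ?_
  show Function.Injective (st _ y)
  refine (injective_iff_map_eq_zero _).2 fun c hc => ?_
  obtain ⟨v, rfl⟩ := (Groth.L21.Mod.epi_iff_stalk_surjective (cokernel.π α)).1 inferInstance y c
  change st _ y (st (cokernel.π α) y v) = 0 at hc
  rw [← Groth.L21.RR.st_comp, cokernel.π_desc, Groth.L21.RR.st_comp, Groth.L21.RR.st_comp] at hc
  have key : ∀ w : (O ⊞ O : P.Modules).presheaf.stalk y, st biprod.snd y w = 0 →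
      st (biprod.desc σ τ) y w = st σ y (st biprod.fst y w) := fun w hw => by
    conv_lhs => rw [st_biprod_dec y w]
    rw [hw, map_zero, add_zero, ← Groth.L21.RR.st_comp, biprod.inl_desc]
  have h1 := key _ hc
  rw [← Groth.L21.RR.st_comp (inv (biprod.desc σ τ)) (biprod.desc σ τ), IsIso.inv_hom_id,
    Groth.L22.CurveDeg.Det.st_id] at h1
  obtain ⟨u, hu⟩ : ∃ u, st Φ y v = st σ y u := ⟨_, h1⟩
  rw [← hσ, Groth.L21.RR.st_comp] at hu
  have h2 := (Groth.L21.Mod.mono_iff_stalk_injective Φ).1 inferInstance y hu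
  show st (cokernel.π α) y v = 0
  rw [show v = _ from h2, ← Groth.L21.RR.st_comp, cokernel.condition, st, Functor.map_zero]
  rfl

variable {k : Type u} [Field k] [IsAlgClosed k] {X P Q : Scheme.{u}} [X.Over (Spec (CommRingCat.of k))]
  [P.Over (Spec (CommRingCat.of k))] [Q.Over (Spec (CommRingCat.of k))]

open Groth.Agent.L13.DblCov in
/-- Most fibres of a double cover have two points. -/
theorem exists_partner_open [IsIntegral X] [IsIntegral P] [IsProper (X ↘ Spec (CommRingCat.of k))]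
    [IsProper (P ↘ Spec (CommRingCat.of k))] (f : X ⟶ P) [IsFinite f] [Flat f] [LocallyOfFinitePresentation f]
    (hf : f ≫ (P ↘ Spec (CommRingCat.of k)) = X ↘ Spec (CommRingCat.of k))
    (hrk : ∀ y : P, f.finrank y = 2) (h2 : (2 : k) ≠ 0) :
    ∃ U : X.Opens, (U : Set X).Nonempty ∧ ∀ x ∈ U, IsClosed ({x} : Set X) → ∃ x', f x' = f x ∧ x' ≠ x := by
  obtain ⟨W, hW, hηW, -⟩ := exists_good f hrk (f (genericPoint X)) ⊤ trivial
  obtain ⟨θ, hθ⟩ := hW.2
  obtain ⟨hσ, -, hfix⟩ := conjOn_spec f ⟨W, hW⟩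
  have hu : IsUnit (2 : Γ(P, W)) := by
    have := ((isUnit_iff_ne_zero.2 h2).map (Coh.toGlobal (P ↘ Spec (CommRingCat.of k)))).map
      (P.presheaf.map (homOfLE (le_top : W ≤ ⊤)).op).hom
    rwa [map_ofNat, map_ofNat] at this
  set σ := conjOn f ⟨W, hW⟩
  haveI : Nonempty (W : Scheme) := ⟨⟨_, hηW⟩⟩
  have hb : θ - σ θ ≠ 0 := fun h0 => by
    obtain ⟨r, hr⟩ := hfix hu θ (sub_eq_zero.1 h0).symm
    have h1 := (hθ.eq (x := r) (y := -1) (x' := 0) (y' := 0) (by rw [hr]; simp)).2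
    exact one_ne_zero (α := Γ(P, W)) (by simpa using h1)
  refine ⟨X.basicOpen (θ - σ θ), ?_, fun x hxb hx => ?_⟩
  · by_contra hemp
    exact hb (basicOpen_eq_bot_iff (θ - σ θ) |>.1 (TopologicalSpace.Opens.ext
      (Set.not_nonempty_iff_eq_empty.1 hemp)))
  have hW' : IsAffineOpen (f ⁻¹ᵁ W) := hW.1.preimage f
  have hxW : x ∈ f ⁻¹ᵁ W := X.basicOpen_le _ hxb
  let p := hW'.primeIdealOf ⟨x, hxW⟩
  let p' : PrimeSpectrum Γ(X, f ⁻¹ᵁ W) := PrimeSpectrum.comap σ p
  have key : ∀ (q : Spec Γ(X, f ⁻¹ᵁ W)) (z : Γ(X, f ⁻¹ᵁ W)),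
      hW'.fromSpec q ∈ X.basicOpen z ↔ z ∉ q.asIdeal := fun q z => by
    show q ∈ hW'.fromSpec ⁻¹ᵁ X.basicOpen z ↔ _
    rw [hW'.fromSpec_preimage_basicOpen]
    exact PrimeSpectrum.mem_basicOpen z q
  have hpx : hW'.fromSpec p = x := hW'.fromSpec_primeIdealOf ⟨x, hxW⟩
  refine ⟨hW'.fromSpec p', ?_, fun he => ?_⟩
  · have hW1 := hW.1
    have hx'W : hW'.fromSpec p' ∈ f ⁻¹ᵁ W := by
      rw [← SetLike.mem_coe, ← hW'.range_fromSpec]
      exact ⟨p', rfl⟩
    suffices hW1.primeIdealOf ⟨f (hW'.fromSpec p'), hx'W⟩ = hW1.primeIdealOf ⟨f x, hxW⟩ by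
      have := congrArg (fun q => hW1.fromSpec q) this
      simp only [hW1.fromSpec_primeIdealOf] at this
      exact this
    refine PrimeSpectrum.ext (Ideal.ext fun r => not_iff_not.1 ?_)
    have hA' : ∀ (q : Spec Γ(P, W)), hW1.fromSpec q ∈ P.basicOpen r ↔ r ∉ q.asIdeal := fun q => by
      show q ∈ hW1.fromSpec ⁻¹ᵁ P.basicOpen r ↔ _
      rw [hW1.fromSpec_preimage_basicOpen]
      exact PrimeSpectrum.mem_basicOpen r q
    rw [← hA', ← hA', hW1.fromSpec_primeIdealOf, hW1.fromSpec_primeIdealOf]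
    show hW'.fromSpec p' ∈ f ⁻¹ᵁ P.basicOpen r ↔ x ∈ f ⁻¹ᵁ P.basicOpen r
    rw [Scheme.preimage_basicOpen, ← hpx]
    refine (key p' _).trans (Iff.trans ?_ (key p _).symm)
    show ¬ σ _ ∈ p.asIdeal ↔ _
    rw [hσ.fix r]
  · obtain ⟨c, hc⟩ := Groth.L21.RR.isRat_of_isClosed k hx (X.presheaf.germ (f ⁻¹ᵁ W) x hxW θ)
    have hσc : σ (cst k X (f ⁻¹ᵁ W) c) = cst k X (f ⁻¹ᵁ W) c := by
      rw [← appLE_cst f hf W (f ⁻¹ᵁ W) le_rfl c, ← Scheme.Hom.app_eq_appLE]
      exact hσ.fix _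
    have hnb : x ∉ X.basicOpen (θ - cst k X (f ⁻¹ᵁ W) c) := by
      rw [Scheme.mem_basicOpen _ _ _ hxW, map_sub]
      intro hu'
      refine (IsLocalRing.mem_maximalIdeal _).1 hc ?_
      rwa [show Groth.L21.RR.cstAt k x c = X.presheaf.germ (f ⁻¹ᵁ W) x hxW (cst k X (f ⁻¹ᵁ W) c) from
        (TopCat.Presheaf.germ_res_apply X.presheaf (homOfLE (le_top : f ⁻¹ᵁ W ≤ ⊤)) x hxW _).symm]
    have h1 : θ - cst k X (f ⁻¹ᵁ W) c ∈ p.asIdeal := by
      by_contra hn
      exact hnb (hpx ▸ (key p _).2 hn)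
    have h2' : σ (θ - cst k X (f ⁻¹ᵁ W) c) ∈ p.asIdeal := by
      by_contra hn
      exact hnb (he ▸ (key p' _).2 hn)
    rw [map_sub, hσc] at h2'
    have := p.asIdeal.sub_mem h1 h2'
    rw [sub_sub_sub_cancel_right] at this
    exact (key p _).1 (hpx.symm ▸ hxb) this

variable [IsIntegral Q] [IsProper (Q ↘ Spec (CommRingCat.of k))] [Smooth (Q ↘ Spec (CommRingCat.of k))]

/-- Adding a point to a rigid effective class of degree the genus. -/
theorem exists_add_point (hd : topologicalKrullDim Q = 1) {A : Q.Modules} (hA : PicF.IsInvertible A)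
    (hA0 : h k 0 A = 1) (hA1 : h k 1 A = 0) (a : Coh.structureModule Q ⟶ A) {p : Q}
    (hp : IsClosed ({p} : Set Q)) :
    ∃ (L : Q.Modules) (ι : A ⟶ L) (t : Coh.structureModule Q ⟶ L), PicF.IsInvertible L ∧
      Curv2.deg k Q L 1 = (Curv2.genus k Q : ℤ) + 1 ∧
      ¬ Function.Surjective (st (a ≫ ι) p) ∧ Function.Surjective (st t p) ∧
      ∀ y, y ≠ p → Function.Surjective (st a y) → Function.Surjective (st (a ≫ ι) y) := by
  haveI := Groth.L21.RR.isNoetherian_of_proper (X := Q) k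
  have hpt : PicF.IsInvertible (ptI p hp) := Groth.L18.Ample.isInvertible_of_iso (Groth.L00.Tensor.tensorUnitLeft _)
      (Groth.L21.RR.twist_point k hd (Groth.L18.Ample.isInvertible_structureModule Q) hp).1
  obtain ⟨P', hP', ⟨ip⟩⟩ := Groth.L08.Cube.exists_inverse hpt
  let L := CohB1.tensorMod A P'
  have hL : PicF.IsInvertible L := Groth.L18.GenLoc.isInvertible_tensor hA hP'
  let i : CohB1.tensorMod L (ptI p hp) ≅ A :=
    tensorAssoc A P' (ptI p hp) ≪≫ tensorIso (Iso.refl A) (tensorComm P' (ptI p hp) ≪≫ ip) ≪≫ tensorUnitRight A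
  obtain ⟨-, he, -, -, hle, hiff⟩ := Groth.L21.RR.twist_point k hd hL hp
  rw [Groth.L21.RR.euler_congr k i, Groth.L21.RR.euler_eq k hd.le A, hA0, hA1] at he
  rw [Groth.L21.RR.h_congr k i 0, hA0] at hle hiff
  have hLe := Groth.L21.RR.euler_eq k hd.le L
  push_cast at he hLe
  obtain ⟨t, ht⟩ : ∃ t : Coh.structureModule Q ⟶ L, Function.Surjective (st t p) := by
    by_contra hn
    have h1 := mt hiff.1 hn
    omega
  have hι := Groth.L21.RR.isMinusPt_twι (L := L) hL hp
  have hfac : a ≫ i.inv ≫ Groth.L21.RR.twι L _ = (a ≫ i.inv) ≫ Groth.L21.RR.twι L _ := (Category.assoc _ _ _).symm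
  refine ⟨L, i.inv ≫ Groth.L21.RR.twι L _, t, hL, ?_, ?_, ht, fun y hy hay => ?_⟩
  · have hg : h k 1 (Coh.structureModule Q) = Curv2.genus k Q := rfl
    rw [Curv2.deg, Groth.L21.RR.euler_eq k hd.le (Coh.structureModule Q), Groth.L21.RR.h0_eq_one_of_isAlgClosed k, hg]
    push_cast
    omega
  · rw [hfac]
    exact hι.not_surjective_comp hL (a ≫ i.inv)
  · rw [hfac]
    refine (hι.surjective_comp_iff hy _).2 fun v => ?_
    obtain ⟨w, hw⟩ := (Groth.L21.Mod.epi_iff_stalk_surjective i.inv).1 inferInstance y v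
    obtain ⟨w', hw'⟩ := hay w
    exact ⟨w', (Groth.L21.RR.st_comp a i.inv y w').trans (by rw [hw']; exact hw)⟩

variable [IsIntegral X] [IsIntegral P] [IsProper (X ↘ Spec (CommRingCat.of k))]
  [IsProper (P ↘ Spec (CommRingCat.of k))] [Smooth (P ↘ Spec (CommRingCat.of k))]
  (f : X ⟶ P) [IsFinite f] [Flat f] (g : X ⟶ Q) [IsFinite g] [Flat g]

set_option maxHeartbeats 1000000 in
/-- In the equality case the first base carries a pencil of degree two. -/
theorem exists_g12 (hdX : topologicalKrullDim X = 1) (hdP : topologicalKrullDim P = 1)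
    (hdQ : topologicalKrullDim Q = 1) (hregP : ∀ y : P, IsRegularLocalRing (P.presheaf.stalk y))
    (hf : f ≫ (P ↘ Spec (CommRingCat.of k)) = X ↘ Spec (CommRingCat.of k))
    (hg : g ≫ (Q ↘ Spec (CommRingCat.of k)) = X ↘ Spec (CommRingCat.of k))
    (hrf : ∀ y, f.finrank y = 2) (hrg : ∀ y, g.finrank y = 2) (h2 : (2 : k) ≠ 0)
    (heq : (Curv2.genus k X : ℤ) = 2 * Curv2.genus k P + 2 * Curv2.genus k Q + 1)
    (hpg : Curv2.genus k P = Curv2.genus k Q)
    (hinj : ∀ x x' : X, IsClosed ({x} : Set X) → f x' = f x → g x' = g x → x' = x) :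
    ∃ N : P.Modules, PicF.IsInvertible N ∧ Curv2.deg k P N 1 = 2 ∧ 2 ≤ h k 0 N := by
  haveI := Groth.L21.RR.isNoetherian_of_proper (X := X) k
  haveI := Groth.L21.RR.isNoetherian_of_proper (X := P) k
  haveI := Groth.L21.RR.isNoetherian_of_proper (X := Q) k
  haveI : P.IsSeparated := ⟨by rw [← Limits.terminal.comp_from (P ↘ Spec (CommRingCat.of k))]; infer_instance⟩
  haveI : LocallyOfFinitePresentation f := inferInstance
  obtain ⟨A, hA, hA0, hA1'⟩ := Groth.L22.CurveDeg.exists_nonspecial (X := Q) (k := k) hdQ 1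
  have hA1 := Groth.L21.RR.h_eq_zero_of_subsingleton k hA1'
  haveI : Nontrivial (Coh.HH Q A 0) := Groth.L21.Duality.nontrivial_of_h0_pos (k := k) (by omega)
  obtain ⟨a, ha⟩ := Groth.L21.RR.exists_hom_ne_zero (L := A)
  have hgA := Groth.L18.Ample.isInvertible_pullback g hA
  let Bad : Set X := f ⁻¹' (f '' (g ⁻¹' {y | y ∉ CohB1.genLocus A a}))
  have hBad : Bad.Finite := by
    refine Set.Finite.preimage' (((?_ : Set.Finite _)).image f) fun b _ => f.finite_preimage_singleton b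
    exact (Groth.L21.RR.finite_compl_genLocus hdQ.le hA ha).preimage' fun b _ => g.finite_preimage_singleton b
  obtain ⟨U, hU, hUp⟩ := exists_partner_open (k := k) f hf hrf h2
  haveI : JacobsonSpace X := LocallyOfFiniteType.jacobsonSpace (X ↘ Spec (CommRingCat.of k))
  have hex : ∀ S : Set X, S.Finite → (∀ x ∈ S, IsClosed ({x} : Set X)) →
      ∃ x ∈ U, IsClosed ({x} : Set X) ∧ x ∉ S ∧ x ∉ Bad := by
    intro S hS hSc
    let V : Set X := (U : Set X) \ ((S ∪ Bad) ∩ closedPoints X)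
    have hfin : ((S ∪ Bad) ∩ closedPoints X).Finite := (hS.union hBad).inter_of_left _
    have hcl : IsClosed ((S ∪ Bad) ∩ closedPoints X) := by
      rw [← Set.biUnion_of_singleton ((S ∪ Bad) ∩ closedPoints X)]
      exact hfin.isClosed_biUnion fun x hx => hx.2
    have hVne : V.Nonempty := ⟨genericPoint X, ((genericPoint_spec X).mem_open_set_iff U.2).2 (by simpa using hU),
      fun hm => Groth.L21.RR.ne_genericPoint_of_isClosed hdX (mem_closedPoints_iff.1 hm.2) rfl⟩
    obtain ⟨x, hxV, hx⟩ := nonempty_inter_closedPoints hVne (U.2.sdiff hcl).isLocallyClosed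
    exact ⟨x, hxV.1, hx, fun h => hxV.2 ⟨Or.inl h, hx⟩, fun h => hxV.2 ⟨Or.inr h, hx⟩⟩
  obtain ⟨x₁, hx₁U, hx₁, -, hx₁B⟩ := hex ∅ Set.finite_empty (by simp)
  have hSfin : (g ⁻¹' (g '' (f ⁻¹' {f x₁}))).Finite :=
    ((f.finite_preimage_singleton _).image g).preimage' fun b _ => g.finite_preimage_singleton b
  obtain ⟨x₂, hx₂U, hx₂, hx₂S, hx₂B⟩ := hex (g ⁻¹' (g '' (f ⁻¹' {f x₁}))) hSfin (fun z hz => by
    obtain ⟨w, hw, hwz⟩ := hz
    exact isClosed_of_eq_fibre g (isClosed_of_eq_fibre f hx₁ hw) hwz.symm)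
  have hagood : ∀ x, x ∉ Bad → ∀ z, f z = f x → Function.Surjective (st a (g z)) := fun x hx z hz => by
    refine (Groth.L21.RR.mem_genLocus_iff hA a _).1 ?_
    by_contra hn
    exact hx ⟨z, hn, hz⟩
  have key : ∀ x, x ∈ U → IsClosed ({x} : Set X) → x ∉ Bad →
      ∃ (L : Q.Modules) (ι : A ⟶ L) (t : Coh.structureModule Q ⟶ L), PicF.IsInvertible L ∧
        ¬ Function.Surjective (st (a ≫ ι) (g x)) ∧ Function.Surjective (st t (g x)) ∧
        (∀ y, y ≠ g x → Function.Surjective (st a y) → Function.Surjective (st (a ≫ ι) y)) ∧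
        IsIso (biprod.desc (adj f (pullHom g (a ≫ ι))) (adj f (pullHom g t))) := by
    intro x hxU hx hxB
    have hp : IsClosed ({g x} : Set Q) := by simpa using g.isClosedMap _ hx
    obtain ⟨x', hff, hne⟩ := hUp x hxU hx
    obtain ⟨L, ι, t, hL, hdeg, hs, ht, hs'⟩ := exists_add_point (k := k) hdQ hA hA0 hA1 a hp
    refine ⟨L, ι, t, hL, hs, ht, hs', ?_⟩
    have hgm := Groth.L18.Ample.isInvertible_pullback g hL
    have key : ∀ (u : Coh.structureModule Q ⟶ L) (z : X),
        Function.Surjective (st (pullHom g u) z) ↔ Function.Surjective (st u (g z)) := fun u z => by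
      rw [← Groth.L21.RR.mem_genLocus_iff hgm, ← Groth.L21.RR.mem_genLocus_iff hL,
        Groth.L18.Ample.genLocus_pullHom g hL]
      rfl
    have hgg : g x' ≠ g x := fun h => hne (hinj x x' hx hff h)
    refine (euler_bound f hgm (pullHom g (a ≫ ι)) (pullHom g t) hdP hregP hf hrf
      hff (mt (key _ x).1 hs) ((key _ x').2 (hs' _ hgg (hagood x hxB x' hff))) ((key t x).2 ht)).2 ?_
    have hdg := deg_pullback hdQ g hg hrg hL
    rw [hdeg, Curv2.deg] at hdg
    have e1 := Groth.L21.RR.euler_eq k hdX.le (Coh.structureModule X)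
    have e2 := Groth.L21.RR.euler_eq k hdP.le (Coh.structureModule P)
    rw [Groth.L21.RR.h0_eq_one_of_isAlgClosed k, show h k 1 (Coh.structureModule X) = Curv2.genus k X from rfl] at e1
    rw [Groth.L21.RR.h0_eq_one_of_isAlgClosed k, show h k 1 (Coh.structureModule P) = Curv2.genus k P from rfl] at e2
    push_cast at hdg e1 e2
    linarith
  obtain ⟨L, ι, t, hL, hs, ht, -, hiso⟩ := key x₁ hx₁U hx₁ hx₁B
  obtain ⟨L', ι', t', hL', hs1', -, hs', hiso'⟩ := key x₂ hx₂U hx₂ hx₂B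
  -- the common kernel
  let K := (Scheme.Modules.pushforward f).obj ((Scheme.Modules.pullback g).obj A)
  let α : Coh.structureModule P ⟶ K := adj f (pullHom g a)
  let Φ : K ⟶ (Scheme.Modules.pushforward f).obj ((Scheme.Modules.pullback g).obj L) :=
    (Scheme.Modules.pushforward f).map ((Scheme.Modules.pullback g).map ι)
  let Φ' : K ⟶ (Scheme.Modules.pushforward f).obj ((Scheme.Modules.pullback g).obj L') :=
    (Scheme.Modules.pushforward f).map ((Scheme.Modules.pullback g).map ι')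
  let φ := biprod.desc (adj f (pullHom g (a ≫ ι))) (adj f (pullHom g t))
  let φ' := biprod.desc (adj f (pullHom g (a ≫ ι'))) (adj f (pullHom g t'))
  haveI : IsIso φ := hiso
  haveI : IsIso φ' := hiso'
  have hα : α ≫ Φ = adj f (pullHom g (a ≫ ι)) := by
    show (ClSub.unitToPush f ≫ _) ≫ _ = ClSub.unitToPush f ≫ _
    rw [Category.assoc, ← Functor.map_comp, pullHom_comp]
  have hα' : α ≫ Φ' = adj f (pullHom g (a ≫ ι')) := by
    show (ClSub.unitToPush f ≫ _) ≫ _ = ClSub.unitToPush f ≫ _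
    rw [Category.assoc, ← Functor.map_comp, pullHom_comp]
  let ψ : K ⟶ Coh.structureModule P := Φ ≫ inv φ ≫ biprod.snd
  let ψ' : K ⟶ Coh.structureModule P := Φ' ≫ inv φ' ≫ biprod.snd
  have hαψ : α ≫ ψ = 0 := by
    rw [← Category.assoc, hα, ← biprod.inl_desc (adj f (pullHom g (a ≫ ι))) (adj f (pullHom g t)), Category.assoc,
      IsIso.hom_inv_id_assoc, biprod.inl_snd]
  have hαψ' : α ≫ ψ' = 0 := by
    rw [← Category.assoc, hα', ← biprod.inl_desc (adj f (pullHom g (a ≫ ι'))) (adj f (pullHom g t')), Category.assoc,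
      IsIso.hom_inv_id_assoc, biprod.inl_snd]
  haveI : Mono α := by
    haveI : Mono (α ≫ Φ) := by
      rw [hα, ← biprod.inl_desc (adj f (pullHom g (a ≫ ι))) (adj f (pullHom g t))]
      exact mono_comp _ _
    exact mono_of_mono α Φ
  have hgL := Groth.L18.Ample.isInvertible_pullback g hL
  have hgL' := Groth.L18.Ample.isInvertible_pullback g hL'
  have surjA : ∀ x, x ∉ Bad → ∀ z, f z = f x → Function.Surjective (st (pullHom g a) z) := fun x hx z hz => by
    rw [← Groth.L21.RR.mem_genLocus_iff hgA, Groth.L18.Ample.genLocus_pullHom g hA]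
    exact (Groth.L21.RR.mem_genLocus_iff hA a _).2 (hagood x hx z hz)
  have hmonoΦ : ∀ {L₀ : Q.Modules} (ι₀ : A ⟶ L₀) (_ : PicF.IsInvertible L₀)
      (_ : Mono (adj f (pullHom g (a ≫ ι₀)))),
      Mono ((Scheme.Modules.pushforward f).map ((Scheme.Modules.pullback g).map ι₀)) := by
    intro L₀ ι₀ hL₀ hm
    haveI : Mono ((Scheme.Modules.pullback g).map ι₀) := by
      refine Groth.L21.InvHom.mono_of_ne_zero hgA (Groth.L18.Ample.isInvertible_pullback g hL₀) fun h0 => ?_
      have h1 : pullHom g (a ≫ ι₀) = 0 := by rw [← pullHom_comp, h0, comp_zero]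
      have h2 : adj f (pullHom g (a ≫ ι₀)) = 0 := by rw [adj, h1, Functor.map_zero, comp_zero]
      have h3 : (𝟙 (Coh.structureModule P)) = 0 := by
        rw [← cancel_mono (adj f (pullHom g (a ≫ ι₀)))]
        simp [h2]
      have h4 := congr(($h3).app ⊤ (oneSec P))
      haveI : Nonempty ((⊤ : P.Opens) : Scheme) := ⟨⟨genericPoint P, trivial⟩⟩
      exact one_ne_zero (α := Γ(P, ⊤)) h4
    haveI : (Scheme.Modules.pushforward f).IsRightAdjoint :=
      (Scheme.Modules.pullbackPushforwardAdjunction f).isRightAdjoint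
    exact Functor.map_mono _ _
  haveI : Mono Φ := hmonoΦ ι hL (by
    rw [← biprod.inl_desc (adj f (pullHom g (a ≫ ι))) (adj f (pullHom g t))]
    exact mono_comp _ _)
  haveI : Mono Φ' := hmonoΦ ι' hL' (by
    rw [← biprod.inl_desc (adj f (pullHom g (a ≫ ι'))) (adj f (pullHom g t'))]
    exact mono_comp _ _)
  let π := cokernel.π α
  let ψb := cokernel.desc α ψ hαψ
  let ψb' := cokernel.desc α ψ' hαψ'
  haveI : Mono ψb := mono_desc α Φ _ _ hα hαψ
  haveI : Mono ψb' := mono_desc α Φ' _ _ hα' hαψ'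
  have hO := Groth.L16.CohClosedPush.isCoh_structure (X := P)
  have hgAc := Groth.L16.ProperFinite.isCoh_of_isInvertible hgA
  have hKc : Coh.IsCoh K := Groth.L16.Exist.isCoh_pushforward f hgAc
  have hS := Groth.L21.Bundle.shortExact_cokernel α
  have hΛc := Groth.L21.Bundle.coh_cokernel hO hKc α
  have hΛ1 := Groth.L21.Bundle.locFree_of_mono hregP hdP.le ψb hΛc
    (Groth.L21.Bundle.locFree_one (Groth.L18.Ample.isInvertible_structureModule P))
  have hrk : Groth.L21.Bundle.rk (cokernel α) = 1 := by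
    have h1 := Groth.L21.Bundle.rk_add hS hKc
    dsimp only at h1
    rw [show Groth.L21.Bundle.rk K = 2 from rk_push f (k := k) hdP hrf hgA,
      Groth.L21.Bundle.rk_eq (Groth.L21.Bundle.locFree_one (Groth.L18.Ample.isInvertible_structureModule P))] at h1
    omega
  rw [hrk] at hΛ1
  have hΛ : PicF.IsInvertible (cokernel α) := Groth.L21.Bundle.isInvertible_of_rank hΛ1
  obtain ⟨N, hN, ⟨iN⟩⟩ := Groth.L08.Cube.exists_inverse hΛ
  refine ⟨N, hN, ?_, ?_⟩
  · rw [Groth.L21.Bundle.deg_inverse k hdP hΛ hN iN]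
    have e0 := Groth.L21.RR.euler_add k hdP.le hS hO hKc hΛc
    dsimp only at e0
    rw [Groth.L03.Euler.euler_push (k := k) f _ hgAc.1 hf] at e0
    have hdg := deg_pullback hdQ g hg hrg hA
    have hdA : Curv2.deg k Q A 1 = (Curv2.genus k Q : ℤ) := by
      have := Groth.L21.Duality.rr_deg (k := k) hdQ.le (Groth.L21.RR.h0_eq_one_of_isAlgClosed k) A
      rw [hA0, hA1] at this
      omega
    rw [hdA] at hdg
    have e1 := Groth.L21.RR.euler_eq k hdX.le (Coh.structureModule X)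
    have e2 := Groth.L21.RR.euler_eq k hdP.le (Coh.structureModule P)
    rw [Groth.L21.RR.h0_eq_one_of_isAlgClosed k, show h k 1 (Coh.structureModule X) = Curv2.genus k X from rfl] at e1
    rw [Groth.L21.RR.h0_eq_one_of_isAlgClosed k, show h k 1 (Coh.structureModule P) = Curv2.genus k P from rfl] at e2
    simp only [Curv2.deg] at hdg ⊢
    push_cast at hdg e1 e2 ⊢
    omega
  by_contra hlt
  obtain ⟨G, hG⟩ := Groth.L21.Duality.exists_fac_of_h0_le_one (k := k) hN (by omega) ψb ψb'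
    (tensorComm N (cokernel α) ≪≫ iN) (tensorComm N (cokernel α) ≪≫ iN)
  -- values at the image of the first point
  let y := f x₁
  have hψ' : ∃ v, st ψ' y v = one P y := by
    let τ' := pullHom g t'
    let Z : Set P := f '' {z : X | z ∉ CohB1.genLocus _ (pullHom g (a ≫ ι'))}
    let W : P.Opens := ⟨Zᶜ, (f.isClosedMap _ (CohB1.genLocus _ (pullHom g (a ≫ ι'))).2.isClosed_compl).isOpen_compl⟩
    have hyW : y ∈ W := by
      rintro ⟨z, hz, hzy⟩
      refine hz ((Groth.L21.RR.mem_genLocus_iff hgL' _ z).2 ?_)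
      rw [← Groth.L21.RR.mem_genLocus_iff hgL', Groth.L18.Ample.genLocus_pullHom g hL']
      refine (Groth.L21.RR.mem_genLocus_iff hL' _ (g z)).2 (hs' _ (fun h => ?_) (hagood x₁ hx₁B z hzy))
      exact hx₂S ⟨z, hzy, h⟩
    have hWle : f ⁻¹ᵁ W ≤ CohB1.genLocus _ (pullHom g (a ≫ ι')) := fun z hz => by
      by_contra hn
      exact hz ⟨z, hn, rfl⟩
    obtain ⟨c, hc⟩ := (Groth.L18.GenLoc.isFrame_genLocus (pullHom g (a ≫ ι'))).exists_coeff hWle
      (Groth.L18.Frame.rs _ (le_top : f ⁻¹ᵁ W ≤ ⊤) (Groth.L18.GenLoc.secOf τ'))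
    rw [Groth.L18.Frame.rs_rs] at hc
    let m : Γ(K, W) := (pullHom g a).app (f ⁻¹ᵁ W) c
    refine ⟨K.presheaf.germ W y hyW m, ?_⟩
    have hΦ : st Φ' y (K.presheaf.germ W y hyW m) = st φ' y (st biprod.inr y (one P y)) := by
      rw [Groth.L21.RR.st_germ, ← Groth.L21.RR.st_comp, biprod.inr_desc, Groth.L21.RR.st_one _ y hyW]
      refine congrArg _ ?_
      show ((Scheme.Modules.pullback g).map ι').app (f ⁻¹ᵁ W) ((pullHom g a).app (f ⁻¹ᵁ W) c) = _
      refine (congrArg (fun e : Coh.structureModule X ⟶ _ => e.app (f ⁻¹ᵁ W) c) (pullHom_comp g a ι')).trans ?_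
      rw [Groth.L18.GenLoc.app_eq, hc]
      show _ = Groth.L18.Frame.rs _ le_top (τ'.app ⊤ ((ClSub.unitToPush f).app ⊤ (oneSec P)))
      congr 1
      exact (congrArg (τ'.app ⊤) (map_one (f.app ⊤).hom)).symm
    show st (Φ' ≫ inv φ' ≫ biprod.snd) y _ = _
    rw [Groth.L21.RR.st_comp, hΦ, ← Groth.L21.RR.st_comp, IsIso.hom_inv_id_assoc, ← Groth.L21.RR.st_comp,
      biprod.inr_snd, Groth.L22.CurveDeg.Det.st_id]
  obtain ⟨v, hv⟩ := hψ'
  obtain ⟨v', hv'⟩ : ∃ v', st ψ y v' = one P y := by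
    have h1 : st ψb y (st G y (st π y v)) = one P y := by
      rw [← Groth.L21.RR.st_comp, hG, ← Groth.L21.RR.st_comp, cokernel.π_desc, hv]
    obtain ⟨v', hv'⟩ := (Groth.L21.Mod.epi_iff_stalk_surjective π).1 inferInstance y (st G y (st π y v))
    refine ⟨v', ?_⟩
    rw [← cokernel.π_desc α ψ hαψ, Groth.L21.RR.st_comp]
    exact (congrArg (st ψb y) hv').trans h1
  -- contradiction at `x₁`
  let w := st (inv φ) y (st Φ y v')
  have e1 : w = st (biprod.inl : Coh.structureModule P ⟶ _) y (st biprod.fst y w) +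
      st (biprod.inr : Coh.structureModule P ⟶ _) y (st biprod.snd y w) := st_biprod_dec y w
  have e2 : st biprod.snd y w = one P y := by
    refine Eq.trans ?_ hv'
    show st biprod.snd y (st (inv φ) y (st Φ y v')) = st (Φ ≫ inv φ ≫ biprod.snd) y v'
    rw [Groth.L21.RR.st_comp, Groth.L21.RR.st_comp]
  obtain ⟨r, hr⟩ := (Groth.L21.RR.bijective_smul_one y).2 (st biprod.fst y w)
  have hinl : ∀ u : (Coh.structureModule P).presheaf.stalk y,
      st φ y (st biprod.inl y u) = st (adj f (pullHom g (a ≫ ι))) y u := fun u => by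
    rw [← Groth.L21.RR.st_comp, biprod.inl_desc]
  have hinr : ∀ u : (Coh.structureModule P).presheaf.stalk y,
      st φ y (st biprod.inr y u) = st (adj f (pullHom g t)) y u := fun u => by
    rw [← Groth.L21.RR.st_comp, biprod.inr_desc]
  have hid : st φ y w = st Φ y v' := by
    show st φ y (st (inv φ) y (st Φ y v')) = st Φ y v'
    rw [← Groth.L21.RR.st_comp, IsIso.inv_hom_id, Groth.L22.CurveDeg.Det.st_id]
  have e3 : st Φ y v' = r • st (adj f (pullHom g (a ≫ ι))) y (one P y) + st (adj f (pullHom g t)) y (one P y) := by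
    rw [← hid, e1, e2, map_add, hinl, hinr, show st biprod.fst y w = r • one P y from hr.symm, map_smul]
  have e4 := congrArg (Groth.L17.ClosedPush.c₀ f ((Scheme.Modules.pullback g).obj L) x₁) e3
  rw [c₀_push_map, map_add, Groth.L17.ClosedPush.c₀_smul, c₀_adj, c₀_adj] at e4
  have hzero := (Groth.L21.RR.surjective_st_iff_not_mem hgL (pullHom g (a ≫ ι)) x₁).not.1 (fun hsur => hs (by
    rw [← Groth.L21.RR.mem_genLocus_iff hL]
    have h1 := (Groth.L21.RR.mem_genLocus_iff hgL (pullHom g (a ≫ ι)) x₁).2 hsur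
    rw [Groth.L18.Ample.genLocus_pullHom g hL] at h1
    exact h1))
  rw [not_not] at hzero
  refine (Groth.L21.RR.surjective_st_iff_not_mem hgL (pullHom g t) x₁).1 ?_ ?_
  · rw [← Groth.L21.RR.mem_genLocus_iff hgL, Groth.L18.Ample.genLocus_pullHom g hL]
    exact (Groth.L21.RR.mem_genLocus_iff hL t _).2 ht
  · rw [eq_sub_of_add_eq' e4.symm]
    refine sub_mem ?_ (Submodule.smul_mem _ _ hzero)
    obtain ⟨b, hb⟩ := surjA x₁ hx₁B x₁ rfl (Groth.L17.ClosedPush.c₀ f _ x₁ v')
    obtain ⟨d, rfl⟩ := (Groth.L21.RR.bijective_smul_one x₁).2 b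
    rw [← hb]
    show st _ x₁ (st (pullHom g a) x₁ (d • one X x₁)) ∈ _
    rw [← Groth.L21.RR.st_comp, pullHom_comp, map_smul]
    exact Submodule.smul_mem _ _ hzero

end Groth.L21.CastSev

namespace Groth.L21.CastSev

/-- Closed points are determined by their images when the product map is a monomorphism. -/
theorem eq_of_lift_eq {k : Type u} [Field k] [IsAlgClosed k] {X P Q : Scheme.{u}} [X.Over (Spec (CommRingCat.of k))]
    [P.Over (Spec (CommRingCat.of k))] [Q.Over (Spec (CommRingCat.of k))]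
    [IsProper (X ↘ Spec (CommRingCat.of k))] [IsProper (P ↘ Spec (CommRingCat.of k))]
    [IsProper (Q ↘ Spec (CommRingCat.of k))] (f : X ⟶ P) (g : X ⟶ Q)
    (hf : f ≫ (P ↘ Spec (CommRingCat.of k)) = X ↘ Spec (CommRingCat.of k))
    (hg : g ≫ (Q ↘ Spec (CommRingCat.of k)) = X ↘ Spec (CommRingCat.of k))
    [Mono (pullback.lift f g (hf.trans hg.symm))] {x x' : X} (hx : IsClosed ({x} : Set X))
    (hx' : IsClosed ({x'} : Set X)) (h₁ : f x' = f x) (h₂ : g x' = g x) : x' = x := by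
  let s := pointOfClosedPoint (X ↘ Spec (CommRingCat.of k)) x hx
  let s' := pointOfClosedPoint (X ↘ Spec (CommRingCat.of k)) x' hx'
  have hs : s ≫ (X ↘ Spec (CommRingCat.of k)) = 𝟙 _ := pointOfClosedPoint_comp _ _ _
  have hs' : s' ≫ (X ↘ Spec (CommRingCat.of k)) = 𝟙 _ := pointOfClosedPoint_comp _ _ _
  have key : ∀ {Y : Scheme.{u}} [Y.Over (Spec (CommRingCat.of k))] [IsProper (Y ↘ Spec (CommRingCat.of k))]
      (u : X ⟶ Y), u ≫ (Y ↘ Spec (CommRingCat.of k)) = X ↘ Spec (CommRingCat.of k) → u x' = u x →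
      s' ≫ u = s ≫ u := by
    intro Y _ _ u hu he
    refine Groth.L21.RR.eq_of_section_apply_eq k (Y ↘ Spec (CommRingCat.of k)) (s' ≫ u) (s ≫ u)
      (by rw [Category.assoc, hu, hs']) (by rw [Category.assoc, hu, hs]) ?_
    show u (s' _) = u (s _)
    rw [pointOfClosedPoint_apply, pointOfClosedPoint_apply]
    exact he
  have h : s' = s := by
    rw [← cancel_mono (pullback.lift f g (hf.trans hg.symm))]
    apply pullback.hom_ext
    · simpa using key f hf h₁
    · simpa using key g hg h₂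
  have := congrArg (fun t : Spec (CommRingCat.of k) ⟶ X => t (IsLocalRing.closedPoint k)) h
  simpa [s, s', pointOfClosedPoint_apply] using this

end Groth.L21.CastSev
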