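import Groth.Agent.L21.CastSev.Main
import Groth.Agent.L00.SubExtendMain
import Mathlib.AlgebraicGeometry.ZariskisMainTheorem

/-!
Equality in the Castelnuovo-Severi inequality: the product map is a closed immersion.
-/

set_option autoImplicit false
set_option backward.isDefEq.respectTransparency false
set_option linter.style.haveILetI false
universe u

open CategoryTheory CategoryTheory.Limits AlgebraicGeometry TopologicalSpace Opposite

noncomputable section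

namespace Groth.L21.CastSev

open Groth.L21.RR (st one oneSec)
open Groth.L18.Frame (rs ro rs_rs rs_smul rs_self IsFrame pull pull_rs pull_smul)
open Groth.L18.GenLoc (secOf)
open Groth.L18.Ample (pullHom)

variable {X P Q : Scheme.{u}} (f : X ⟶ P) (g : X ⟶ Q) {N : Q.Modules} (s t : Coh.structureModule Q ⟶ N)

/-- The images of the two sections generate the module over functions on the first base. -/
def GenBy {M : X.Modules} (σ τ : Coh.structureModule X ⟶ M) : Prop :=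
  ∀ (W : P.Opens) (m : Γ(M, f ⁻¹ᵁ W)), ∃ a b : Γ(P, W),
    m = σ.app (f ⁻¹ᵁ W) (f.app W a) + τ.app (f ⁻¹ᵁ W) (f.app W b)

theorem genBy_of_isIso {M : X.Modules} (σ τ : Coh.structureModule X ⟶ M)
    [IsIso (biprod.desc (adj f σ) (adj f τ))] : GenBy f σ τ := fun W m => by
  let φ := biprod.desc (adj f σ) (adj f τ)
  obtain ⟨v, hv⟩ := (ConcreteCategory.bijective_of_isIso (φ.app W)).2 m
  refine ⟨(biprod.fst : Coh.structureModule P ⊞ Coh.structureModule P ⟶ _).app W v,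
    (biprod.snd : Coh.structureModule P ⊞ Coh.structureModule P ⟶ _).app W v, ?_⟩
  rw [← hv]
  show φ.app W v = (biprod.fst ≫ adj f σ).app W v + (biprod.snd ≫ adj f τ).app W v
  refine Eq.trans ?_ (show (biprod.fst ≫ adj f σ + biprod.snd ≫ adj f τ).app W v = _ from rfl)
  exact congrArg (fun h : (Coh.structureModule P ⊞ Coh.structureModule P ⟶ (Scheme.Modules.pushforward f).obj M) => h.app W v) (show φ = biprod.fst ≫ adj f σ + biprod.snd ≫ adj f τ from by
    apply biprod.hom_ext' <;> simp [φ])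

theorem GenBy.symm {M : X.Modules} {σ τ : Coh.structureModule X ⟶ M} (h : GenBy f σ τ) : GenBy f τ σ :=
  fun W m => by
    obtain ⟨a, b, hab⟩ := h W m
    exact ⟨b, a, hab.trans (add_comm _ _)⟩

/-- Two sections generating over the base have no common zero. -/
theorem GenBy.surjective [IsAffineHom f] {M : X.Modules} [Coh.IsQCoh M] (hM : PicF.IsInvertible M)
    {σ τ : Coh.structureModule X ⟶ M} (h : GenBy f σ τ) (x : X) :
    Function.Surjective (st σ x) ∨ Function.Surjective (st τ x) := by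
  by_contra hn
  rw [not_or, Groth.L21.RR.surjective_st_iff_not_mem hM, Groth.L21.RR.surjective_st_iff_not_mem hM, not_not,
    not_not] at hn
  obtain ⟨_, ⟨W, hW, rfl⟩, hxW, -⟩ := P.isBasis_affineOpens.exists_subset_of_mem_open (Set.mem_univ (f x)) isOpen_univ
  have hB : IsAffineOpen (f ⁻¹ᵁ W) := hW.preimage f
  letI := X.presheaf.algebra_section_stalk (U := f ⁻¹ᵁ W) ⟨x, hxW⟩
  haveI := hB.isLocalization_stalk ⟨x, hxW⟩
  letI := Groth.L20.ModStalk.stalkModule M (show x ∈ f ⁻¹ᵁ W from hxW)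
  haveI := Groth.L20.ModStalk.isLocalizedModule_germ M hB (show x ∈ f ⁻¹ᵁ W from hxW)
  haveI : IsScalarTower Γ(X, f ⁻¹ᵁ W) (X.presheaf.stalk x) (M.presheaf.stalk x) :=
    IsScalarTower.of_algebraMap_smul fun _ _ => rfl
  refine Groth.L21.RR.smul_top_ne_top hM x fun z _ => ?_
  obtain ⟨⟨m, c⟩, hc⟩ := IsLocalizedModule.surj (hB.primeIdealOf ⟨x, hxW⟩).asIdeal.primeCompl
    (Groth.L20.ModStalk.germₗ M (show x ∈ f ⁻¹ᵁ W from hxW)) z
  obtain ⟨a, b, hab⟩ := h W m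
  have hu : IsUnit (algebraMap Γ(X, f ⁻¹ᵁ W) (X.presheaf.stalk x) c) := IsLocalization.map_units _ c
  have hm : M.presheaf.germ (f ⁻¹ᵁ W) x hxW m ∈
      IsLocalRing.maximalIdeal (X.presheaf.stalk x) • (⊤ : Submodule (X.presheaf.stalk x) (M.presheaf.stalk x)) := by
    rw [hab, map_add, Groth.L18.GenLoc.app_eq, Groth.L18.GenLoc.app_eq, Groth.L20.ModStalk.germ_smul,
      Groth.L20.ModStalk.germ_smul]
    refine add_mem (Submodule.smul_mem _ _ ?_) (Submodule.smul_mem _ _ ?_)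
    · exact (Groth.L21.RR.st_one σ x (show x ∈ f ⁻¹ᵁ W from hxW)) ▸ hn.1
    · exact (Groth.L21.RR.st_one τ x (show x ∈ f ⁻¹ᵁ W from hxW)) ▸ hn.2
  have h2 : algebraMap Γ(X, f ⁻¹ᵁ W) (X.presheaf.stalk x) c • z ∈
      IsLocalRing.maximalIdeal (X.presheaf.stalk x) • (⊤ : Submodule (X.presheaf.stalk x) (M.presheaf.stalk x)) := by
    rw [IsScalarTower.algebraMap_smul]
    exact hc.symm ▸ hm
  exact (Submodule.smul_mem_iff_of_isUnit _ hu).1 h2

/-- Functions are expressed by functions of the two factors where the first section generates. -/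
theorem exists_expr (hN : PicF.IsInvertible N) (hgen : GenBy f (pullHom g s) (pullHom g t)) {W : P.Opens}
    (c : Γ(X, f ⁻¹ᵁ W)) :
    ∃ (a b : Γ(P, W)) (h : Γ(Q, CohB1.genLocus N s)),
      ro (inf_le_left : f ⁻¹ᵁ W ⊓ g ⁻¹ᵁ CohB1.genLocus N s ≤ _) c =
        ro inf_le_left (f.app W a) + ro inf_le_left (f.app W b) * ro inf_le_right (g.app _ h) := by
  let V := CohB1.genLocus N s
  let L := (Scheme.Modules.pullback g).obj N
  have he := Groth.L18.GenLoc.isFrame_genLocus s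
  obtain ⟨h, hh⟩ := he.exists_coeff le_rfl (rs N le_top (secOf t))
  rw [rs_self] at hh
  obtain ⟨a, b, hab⟩ := hgen W ((pullHom g s).app (f ⁻¹ᵁ W) c)
  refine ⟨a, b, h, ?_⟩
  let U := f ⁻¹ᵁ W ⊓ g ⁻¹ᵁ V
  let eU : Γ(L, U) := rs L (inf_le_right : U ≤ g ⁻¹ᵁ V) (pull g N V (rs N le_top (secOf s)))
  have heU : IsFrame L U eU := (he.pullback g N).mono inf_le_right
  have key : ∀ (u : Coh.structureModule Q ⟶ N) (p : Γ(Q, V)), p • rs N le_top (secOf s) = rs N le_top (secOf u) →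
      ∀ r : Γ(X, f ⁻¹ᵁ W), rs L (inf_le_left : U ≤ f ⁻¹ᵁ W) ((pullHom g u).app (f ⁻¹ᵁ W) r) =
        (ro inf_le_left r * ro inf_le_right (g.app V p)) • eU := fun u p hp r => by
    rw [Groth.L18.GenLoc.app_eq, rs_smul, rs_rs, pullHom, Groth.L18.GenLoc.secOf_homOfSection, mul_smul]
    refine congrArg (ro (inf_le_left : U ≤ f ⁻¹ᵁ W) r • ·) ?_
    refine Eq.trans ?_ (rs_smul ((Scheme.Modules.pullback g).obj N) (inf_le_right : U ≤ g ⁻¹ᵁ V) _ _)
    rw [Groth.L18.Ample.coeff_pull g u hp]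
    exact (rs_rs _ _ _ _).symm
  have h1 := key s 1 (one_smul _ _) c
  have h2 := key s 1 (one_smul _ _) (f.app W a)
  have h3 := key t h hh (f.app W b)
  simp only [map_one, mul_one] at h1 h2
  have h4 := (congrArg (rs L (inf_le_left : U ≤ f ⁻¹ᵁ W)) hab).trans
    ((map_add (L.presheaf.map (homOfLE (inf_le_left : U ≤ f ⁻¹ᵁ W)).op).hom _ _).trans (congrArg₂ (· + ·) h2 h3))
  rw [h1, ← add_smul] at h4
  have h5 := heU.inj le_rfl (a := ro inf_le_left c) (b := ro inf_le_left (f.app W a) + ro inf_le_left (f.app W b) * ro inf_le_right (g.app V h))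
  rw [rs_self] at h5
  exact h5 h4

theorem appLE_ro {Z Y : Scheme.{u}} (a : Z ⟶ Y) {U U' : Y.Opens} (hle : U' ≤ U) {T : Z.Opens}
    (e : T ≤ a ⁻¹ᵁ U') (r : Γ(Y, U)) :
    (a.appLE U' T e).hom (ro hle r) = (a.appLE U T (e.trans (a.preimage_mono hle))).hom r :=
  congr($(Scheme.Hom.map_appLE a e (homOfLE hle).op) r)

theorem appLE_comp {Z : Scheme.{u}} (a : Z ⟶ X) {Y : Scheme.{u}} (u : X ⟶ Y) (W : Y.Opens) {T : Z.Opens}
    (e : T ≤ a ⁻¹ᵁ (u ⁻¹ᵁ W)) (r : Γ(Y, W)) :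
    (a.appLE (u ⁻¹ᵁ W) T e).hom (u.app W r) = ((a ≫ u).appLE W T e).hom r := by
  rw [Scheme.Hom.app_eq_appLE]
  exact congr($(Scheme.Hom.appLE_comp_appLE a u W (u ⁻¹ᵁ W) T le_rfl e) r)

theorem appLE_congr' {Z Y : Scheme.{u}} {a b : Z ⟶ Y} (hab : a = b) (W : Y.Opens) {T : Z.Opens}
    (e : T ≤ a ⁻¹ᵁ W) (e' : T ≤ b ⁻¹ᵁ W) (r : Γ(Y, W)) : (a.appLE W T e).hom r = (b.appLE W T e').hom r := by
  subst hab; rfl

/-- Two morphisms with the same compositions agree near a point over the good locus. -/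
theorem eq_on_affine (hN : PicF.IsInvertible N) [IsAffineHom f]
    (hgen : GenBy f (pullHom g s) (pullHom g t)) {T : Scheme.{u}} {a b : T ⟶ X}
    (hf : a ≫ f = b ≫ f) (hg : a ≫ g = b ≫ g) {W : P.Opens} (hW : IsAffineOpen W) {O : T.Opens}
    (hO : IsAffineOpen O) (hOW : O ≤ (a ≫ f) ⁻¹ᵁ W) (hOV : O ≤ (a ≫ g) ⁻¹ᵁ CohB1.genLocus N s) :
    hO.fromSpec ≫ a = hO.fromSpec ≫ b := by
  have hB : IsAffineOpen (f ⁻¹ᵁ W) := hW.preimage f
  have ea : O ≤ a ⁻¹ᵁ (f ⁻¹ᵁ W) := hOW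
  have eb : O ≤ b ⁻¹ᵁ (f ⁻¹ᵁ W) := by
    show O ≤ (b ≫ f) ⁻¹ᵁ W
    rw [← hf]; exact hOW
  have ea' : O ≤ a ⁻¹ᵁ (f ⁻¹ᵁ W ⊓ g ⁻¹ᵁ CohB1.genLocus N s) := le_inf ea hOV
  have eb' : O ≤ b ⁻¹ᵁ (f ⁻¹ᵁ W ⊓ g ⁻¹ᵁ CohB1.genLocus N s) := le_inf eb (by
    show O ≤ (b ≫ g) ⁻¹ᵁ CohB1.genLocus N s
    rw [← hg]; exact hOV)
  rw [← hB.SpecMap_appLE_fromSpec a hO ea, ← hB.SpecMap_appLE_fromSpec b hO eb]
  congr 2
  refine CommRingCat.hom_ext (RingHom.ext fun c => ?_)
  obtain ⟨u, v, h, hc⟩ := exists_expr f g s t hN hgen c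
  rw [← appLE_ro a (inf_le_left : _ ≤ f ⁻¹ᵁ W) ea' c, ← appLE_ro b (inf_le_left : _ ≤ f ⁻¹ᵁ W) eb' c, hc]
  simp only [map_add, map_mul, appLE_ro, appLE_comp]
  congr 1
  · exact appLE_congr' hf W _ _ u
  · exact congrArg₂ (· * ·) (appLE_congr' hf W _ _ v) (appLE_congr' hg _ _ _ h)

/-- The product map is a monomorphism. -/
theorem isClosedImmersion_lift [IsIntegral X] (hN : PicF.IsInvertible N) [IsFinite f]
    (hgen : GenBy f (pullHom g s) (pullHom g t)) [Coh.IsQCoh ((Scheme.Modules.pullback g).obj N)]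
    {Z : Scheme.{u}} (pP : P ⟶ Z) (pQ : Q ⟶ Z) [IsSeparated pQ] (w : f ≫ pP = g ≫ pQ) :
    IsClosedImmersion (pullback.lift f g w) := by
  have hg' := Groth.L18.Ample.isInvertible_pullback g hN
  haveI : Mono (pullback.lift f g w) := ⟨fun {T} a b hab => by
    have hf : a ≫ f = b ≫ f := by
      have := congrArg (· ≫ pullback.fst pP pQ) hab
      simpa using this
    have hg : a ≫ g = b ≫ g := by
      have := congrArg (· ≫ pullback.snd pP pQ) hab
      simpa using this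
    have hpt : ∀ z : T, ∃ O : T.Opens, z ∈ O ∧ ∃ hO : IsAffineOpen O, hO.fromSpec ≫ a = hO.fromSpec ≫ b := by
      intro z
      obtain ⟨_, ⟨W, hW, rfl⟩, hzW, -⟩ := P.isBasis_affineOpens.exists_subset_of_mem_open (Set.mem_univ ((a ≫ f) z)) isOpen_univ
      have main : ∀ s' t' : Coh.structureModule Q ⟶ N, GenBy f (pullHom g s') (pullHom g t') →
          (a ≫ g) z ∈ CohB1.genLocus N s' →
          ∃ O : T.Opens, z ∈ O ∧ ∃ hO : IsAffineOpen O, hO.fromSpec ≫ a = hO.fromSpec ≫ b := by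
        intro s' t' hgen' hz
        obtain ⟨_, ⟨O, hO, rfl⟩, hzO, hOle⟩ := T.isBasis_affineOpens.exists_subset_of_mem_open
          (show z ∈ (a ≫ f) ⁻¹ᵁ W ⊓ (a ≫ g) ⁻¹ᵁ CohB1.genLocus N s' from ⟨hzW, hz⟩)
          ((a ≫ f) ⁻¹ᵁ W ⊓ (a ≫ g) ⁻¹ᵁ CohB1.genLocus N s').2
        exact ⟨O, hzO, hO, eq_on_affine f g s' t' hN hgen' hf hg hW hO (fun _ h => (hOle h).1) fun _ h => (hOle h).2⟩
      have key : ∀ (u : Coh.structureModule Q ⟶ N), Function.Surjective (st (pullHom g u) (a z)) →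
          (a ≫ g) z ∈ CohB1.genLocus N u := fun u hu => by
        have h1 := (Groth.L21.RR.mem_genLocus_iff hg' (pullHom g u) (a z)).2 hu
        rw [Groth.L18.Ample.genLocus_pullHom g hN] at h1
        exact h1
      rcases hgen.surjective f hg' (a z) with h | h
      · exact main s t hgen (key s h)
      · exact main t s (hgen.symm f) (key t h)
    choose O hzO hO hOeq using hpt
    refine (T.openCoverOfIsOpenCover O (eq_top_iff.2 fun z _ => Opens.mem_iSup.2 ⟨z, hzO z⟩)).hom_ext _ _ fun z => ?_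
    show (O z).ι ≫ a = (O z).ι ≫ b
    rw [← IsAffineOpen.isoSpec_hom_fromSpec (hO z), Category.assoc, Category.assoc, hOeq z]⟩
  haveI : IsProper (pullback.lift f g w) := by
    haveI : IsProper (pullback.lift f g w ≫ pullback.fst pP pQ) := by
      rw [pullback.lift_fst]; infer_instance
    exact IsProper.of_comp _ (pullback.fst pP pQ)
  rw [IsClosedImmersion.eq_proper_inf_monomorphisms]
  exact ⟨inferInstance, inferInstance⟩

end Groth.L21.CastSev
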