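import Groth.Agent.L21.Bundle.Sub
import Groth.Agent.L21.Bundle.Tors
import Groth.Agent.L21.Bundle.Calc
import Groth.Agent.L21.RR.PointDrop
import Groth.Agent.L22.Chern.VBInject
import Groth.Agent.L17.ClosedPush
import Groth.Agent.L21.Bundle.Twist
import Groth.Agent.L22.Inter.PullNum
import Groth.Agent.L27.Deg.PushRank
import Groth.Agent.L05.CodimFlat.Finite
import Groth.Agent.L21.P1.FuncField
import Groth.Prelude.Def_ClSub2
import Mathlib.RingTheory.Flat.FaithfullyFlat.Basic
import Mathlib.RingTheory.Valuation.ValuationRing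

/-!
Two sections separating a fibre of a flat cover give an injection of the free module of rank two.
-/

set_option autoImplicit false
set_option backward.isDefEq.respectTransparency false
set_option linter.style.haveILetI false
universe u

open CategoryTheory CategoryTheory.Limits AlgebraicGeometry TopologicalSpace Opposite IsLocalRing

noncomputable section

namespace Groth.L21.CastSev

open Groth.L21.RR (st one oneSec h)

variable {X P : Scheme.{u}} (f : X ⟶ P) {M : X.Modules}

/-- A section as a section of the direct image. -/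
def adj (σ : Coh.structureModule X ⟶ M) : Coh.structureModule P ⟶ (Scheme.Modules.pushforward f).obj M :=
  ClSub.unitToPush f ≫ (Scheme.Modules.pushforward f).map σ

theorem c₀_adj (σ : Coh.structureModule X ⟶ M) (z : X) :
    Groth.L17.ClosedPush.c₀ f M z (st (adj f σ) (f z) (one P (f z))) = st σ z (one X z) := by
  have h1 : (adj f σ).app ⊤ (oneSec P) = σ.app ⊤ (oneSec X) := by
    show σ.app (f ⁻¹ᵁ ⊤) ((ClSub.unitToPush f).app ⊤ (oneSec P)) = _
    congr 1
    exact map_one (f.app ⊤).hom
  rw [Groth.L21.RR.st_one_top, Groth.L21.RR.st_one_top]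
  exact (Groth.L17.ClosedPush.c₀_germ f M z (V := ⊤) trivial _).trans (congrArg _ h1)

/-- Stalks of the direct image seen in the stalks of the points of a fibre. -/
theorem exists_comparison [Flat f] {z : X} {y : P} (hz : f z = y) :
    ∃ (ψ : P.presheaf.stalk y →+* X.presheaf.stalk z)
      (c : ((Scheme.Modules.pushforward f).obj M).presheaf.stalk y →+ M.presheaf.stalk z),
      IsLocalHom ψ ∧ Function.Injective ψ ∧ (∀ r v, c (r • v) = ψ r • c v) ∧
        ∀ σ : Coh.structureModule X ⟶ M, c (st (adj f σ) y (one P y)) = st σ z (one X z) := by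
  subst hz
  refine ⟨(f.stalkMap z).hom, Groth.L17.ClosedPush.c₀ f M z, inferInstance, ?_,
    Groth.L17.ClosedPush.c₀_smul f M z, fun σ => c₀_adj f σ z⟩
  have hfl : (f.stalkMap z).hom.Flat := Flat.stalkMap f z
  letI := (f.stalkMap z).hom.toAlgebra
  haveI : Module.Flat (P.presheaf.stalk (f z)) (X.presheaf.stalk z) := hfl
  haveI : IsLocalHom (algebraMap (P.presheaf.stalk (f z)) (X.presheaf.stalk z)) :=
    inferInstanceAs (IsLocalHom (f.stalkMap z).hom)
  haveI := Module.FaithfullyFlat.of_flat_of_isLocalHom (A := P.presheaf.stalk (f z)) (B := X.presheaf.stalk z)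
  exact FaithfulSMul.algebraMap_injective (P.presheaf.stalk (f z)) (X.presheaf.stalk z)

variable [IsIntegral X]

/-- The generic rank of the direct image of an invertible module. -/
theorem rk_push [IsIntegral P] {k : Type u} [Field k] [P.Over (Spec (CommRingCat.of k))]
    [IsProper (P ↘ Spec (CommRingCat.of k))] [IsFinite f] [Flat f] (hd : topologicalKrullDim P = 1) {n : ℕ} [NeZero n]
    (hrk : ∀ y, f.finrank y = n) {M : X.Modules} (hM : PicF.IsInvertible M) :
    Groth.L21.Bundle.rk ((Scheme.Modules.pushforward f).obj M) = n := by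
  haveI := Groth.L21.RR.isNoetherian_of_proper (X := P) k
  haveI : IsLocallyNoetherian X := LocallyOfFiniteType.isLocallyNoetherian f
  haveI : LocallyOfFinitePresentation f := inferInstance
  have hE := Groth.L27.Deg.isFinLocFreeOfRank_push f hrk
  haveI : Surjective f := (Scheme.Hom.one_le_finrank_iff_surjective f).1 fun y => by
    show 1 ≤ f.finrank y
    rw [hrk y]; exact Nat.one_le_iff_ne_zero.2 (NeZero.ne n)
  have hξ : f (genericPoint X) = genericPoint P := Groth.L05.CodimFlat.map_genericPoint f
  have huniq : ∀ x', f x' = genericPoint P → x' = genericPoint X := fun x' he =>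
    (Groth.L19.GenericFinite.eq_of_specializes_of_quasiFiniteAt f
      (Groth.L19.GenericFinite.quasiFiniteAt_of_finite_fibre f _ (f.finite_preimage_singleton _))
      ((genericPoint_spec X).specializes (y := x') trivial) (hξ.trans he.symm)).symm
  rw [← Groth.L21.Bundle.rk_eq hE, ← Groth.L21.Bundle.len_eq_rk (Groth.L21.Bundle.isCoh_of_rank hE),
    ← Groth.L21.Bundle.len_eq_rk (Groth.L16.Exist.isCoh_pushforward f (Groth.L16.ProperFinite.isCoh_of_isInvertible hM))]
  obtain ⟨e, he⟩ := Groth.L21.RR.exists_frame_stalk hM (genericPoint X)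
  rw [Groth.L22.Inter.len_push_of_len_one f f.isClosedMap hξ huniq
      (Groth.L22.Inter.len_eq_one_of_bijective e he)]
  exact (Groth.L22.CurveDeg.len_push_structure_eq_residueDegree f f.isClosedMap hξ huniq).symm

variable [Flat f] (hM : PicF.IsInvertible M) (σ τ : Coh.structureModule X ⟶ M)

include hM in
/-- Injectivity at the image of a pair of separated points. -/
theorem injective_st_desc {x x' : X} (hxx : f x' = f x) (hPID : ∀ a b : P.presheaf.stalk (f x), a ∣ b ∨ b ∣ a)
    (hσx : ¬ Function.Surjective (st σ x)) (hσx' : Function.Surjective (st σ x'))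
    (hτx : Function.Surjective (st τ x)) :
    Function.Injective (st (biprod.desc (adj f σ) (adj f τ)) (f x)) := by
  let y := f x
  obtain ⟨ψ, c, hψ, hψi, hc, hcσ⟩ := exists_comparison f (M := M) (z := x) (y := y) rfl
  obtain ⟨ψ', c', hψ', hψi', hc', hcσ'⟩ := exists_comparison f (M := M) (z := x') (y := y) hxx
  haveI := hψ
  haveI := hψ'
  refine (injective_iff_map_eq_zero _).2 fun v hv => ?_
  obtain ⟨a, ha⟩ := (Groth.L21.RR.bijective_smul_one y).2 (st (biprod.fst : _ ⟶ Coh.structureModule P) y v)
  obtain ⟨b, hb⟩ := (Groth.L21.RR.bijective_smul_one y).2 (st (biprod.snd : _ ⟶ Coh.structureModule P) y v)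
  have hdec : v = st biprod.inl y (a • one P y) + st biprod.inr y (b • one P y) := by
    rw [show a • one P y = _ from ha, show b • one P y = _ from hb, ← Groth.L21.RR.st_comp, ← Groth.L21.RR.st_comp,
      ← Groth.L22.CurveDeg.Det.st_add, biprod.total, Groth.L22.CurveDeg.Det.st_id]
  have hrel : a • st (adj f σ) y (one P y) + b • st (adj f τ) y (one P y) = 0 := by
    rw [← hv, hdec, map_add, ← Groth.L21.RR.st_comp, ← Groth.L21.RR.st_comp, biprod.inl_desc, biprod.inr_desc,
      map_smul, map_smul]
  have hx1 := congrArg c hrel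
  have hx2 := congrArg c' hrel
  rw [map_add, hc, hc, hcσ, hcσ, map_zero] at hx1
  rw [map_add, hc', hc', hcσ', hcσ', map_zero] at hx2
  have hs := (Groth.L21.RR.surjective_st_iff_not_mem hM σ x).not.1 hσx
  have hs' := (Groth.L21.RR.surjective_st_iff_not_mem hM σ x').1 hσx'
  have ht := (Groth.L21.RR.surjective_st_iff_not_mem hM τ x).1 hτx
  rw [not_not] at hs
  suffices h0 : a = 0 ∧ b = 0 by
    rw [hdec, h0.1, h0.2]
    simp only [zero_smul, map_zero, add_zero]
  have htf : ∀ (z : X) (θ : P.presheaf.stalk y →+* X.presheaf.stalk z), Function.Injective θ → IsDomain (X.presheaf.stalk z) →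
      ∀ (g : P.presheaf.stalk y) (m : M.presheaf.stalk z), θ g • m = 0 → g = 0 ∨ m = 0 := fun z θ hθ hdom g m hgm => by
    obtain ⟨e, he⟩ := Groth.L21.RR.exists_frame_stalk hM z
    obtain ⟨r, rfl⟩ := he.2 m
    haveI := hdom
    have h1 : θ g * r = 0 := he.1 (a₁ := θ g * r) (a₂ := 0) (by simpa [mul_smul] using hgm)
    rcases mul_eq_zero.1 h1 with h2 | h2
    · exact Or.inl (hθ (h2.trans (map_zero θ).symm))
    · exact Or.inr (by simp [h2])
  by_contra hne
  rcases hPID a b with ⟨q, rfl⟩ | ⟨q, rfl⟩
  · have ha0 : a ≠ 0 := fun h => hne ⟨h, by rw [h, zero_mul]⟩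
    rw [map_mul, mul_smul, ← smul_add] at hx1 hx2
    have e1 := (htf x ψ hψi inferInstance a _ hx1).resolve_left ha0
    have e2 := (htf x' ψ' hψi' inferInstance a _ hx2).resolve_left ha0
    have hq : q ∈ maximalIdeal (P.presheaf.stalk y) := by
      by_contra hq
      have hu : IsUnit q := not_not.1 fun hn => hq ((IsLocalRing.mem_maximalIdeal q).2 hn)
      refine ht ?_
      obtain ⟨u, hu'⟩ := hu.map ψ
      rw [← hu', ← eq_neg_iff_add_eq_zero] at e1
      rw [show st τ x (one X x) = (↑u⁻¹ : X.presheaf.stalk x) • ((u : X.presheaf.stalk x) • st τ x (one X x)) by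
        rw [smul_smul, Units.inv_mul, one_smul],
        show (u : X.presheaf.stalk x) • st τ x (one X x) = -st σ x (one X x) by rw [e1, neg_neg]]
      exact Submodule.smul_mem _ _ (neg_mem hs)
    refine hs' ?_
    rw [eq_neg_iff_add_eq_zero.2 e2]
    exact neg_mem (Submodule.smul_mem_smul (map_nonunit ψ' q hq) Submodule.mem_top)
  · have hb0 : b ≠ 0 := fun h => hne ⟨by rw [h, zero_mul], h⟩
    rw [map_mul, mul_smul, ← smul_add] at hx1
    have e1 := (htf x ψ hψi inferInstance b _ hx1).resolve_left hb0
    refine ht ?_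
    rw [add_comm, ← eq_neg_iff_add_eq_zero] at e1
    rw [e1]
    exact neg_mem (Submodule.smul_mem _ _ hs)

variable {k : Type u} [Field k] [IsIntegral P] [X.Over (Spec (CommRingCat.of k))]
  [P.Over (Spec (CommRingCat.of k))] [IsProper (X ↘ Spec (CommRingCat.of k))]
  [IsProper (P ↘ Spec (CommRingCat.of k))]

include hM in
/-- The basic inequality. -/
theorem euler_bound [IsFinite f] (hd : topologicalKrullDim P = 1)
    (hreg : ∀ y : P, IsRegularLocalRing (P.presheaf.stalk y))
    (hf : f ≫ (P ↘ Spec (CommRingCat.of k)) = X ↘ Spec (CommRingCat.of k))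
    (hrk : ∀ y, f.finrank y = 2) {x x' : X} (hxx : f x' = f x)
    (hσx : ¬ Function.Surjective (st σ x)) (hσx' : Function.Surjective (st σ x'))
    (hτx : Function.Surjective (st τ x)) :
    2 * Curv2.euler k P (Coh.structureModule P) ≤ Curv2.euler k X M ∧
      (Curv2.euler k X M = 2 * Curv2.euler k P (Coh.structureModule P) →
        IsIso (biprod.desc (adj f σ) (adj f τ))) := by
  haveI := Groth.L21.RR.isNoetherian_of_proper (X := X) k
  haveI := Groth.L21.RR.isNoetherian_of_proper (X := P) k
  haveI : P.IsSeparated := ⟨by rw [← Limits.terminal.comp_from (P ↘ Spec (CommRingCat.of k))]; infer_instance⟩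
  have hO := Groth.L16.CohClosedPush.isCoh_structure (X := P)
  have hMc := Groth.L16.ProperFinite.isCoh_of_isInvertible hM
  have hE := Groth.L22.Chern.isFinLocFreeOfRank_biprod (Coh.structureModule P) 1
    (Groth.L21.Bundle.locFree_one (Groth.L18.Ample.isInvertible_structureModule P))
  have hEc := Groth.L21.Bundle.isCoh_of_rank hE
  have hPc := Groth.L16.Exist.isCoh_pushforward f hMc
  let φ := biprod.desc (adj f σ) (adj f τ)
  have hinj := injective_st_desc f hM σ τ hxx (fun a b => by
    haveI := Groth.L21.Bundle.isPrincipalIdealRing_stalk hreg hd.le (f x)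
    exact ValuationRing.dvd_total a b) hσx hσx' hτx
  have hK : Coh.IsCoh (kernel φ) := Groth.L21.Bundle.coh_kernel hEc hPc φ
  have hKl := Groth.L21.Bundle.locFree_of_mono hreg hd.le (kernel.ι φ) hK hE
  haveI hmono : Mono φ := by
    obtain ⟨θ⟩ := Groth.L22.CurveDeg.nonempty_stalk_equiv hKl (f x)
    rcases Nat.eq_zero_or_pos (Groth.L21.Bundle.rk (kernel φ)) with h0 | h0
    · rw [h0] at hKl
      exact Preadditive.mono_of_isZero_kernel φ (Groth.L21.Bundle.isZero_of_rank_zero hKl)
    · exfalso
      haveI : Subsingleton ((kernel φ).presheaf.stalk (f x)) := ⟨fun u v => by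
        have hu : ∀ w : (kernel φ).presheaf.stalk (f x), w = 0 := fun w => by
          refine (Groth.L21.Mod.mono_iff_stalk_injective (kernel.ι φ)).1 inferInstance (f x) ?_
          rw [map_zero]
          refine hinj ?_
          rw [map_zero]
          show st φ (f x) (st (kernel.ι φ) (f x) w) = 0
          rw [← Groth.L21.RR.st_comp, kernel.condition, st, Functor.map_zero]
          rfl
        rw [hu u, hu v]⟩
      haveI := θ.toEquiv.subsingleton
      haveI : Nonempty (Fin (Groth.L21.Bundle.rk (kernel φ))) := ⟨⟨0, h0⟩⟩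
      exact not_subsingleton (Fin (Groth.L21.Bundle.rk (kernel φ)) → P.presheaf.stalk (f x)) inferInstance
  have hS := Groth.L21.Bundle.shortExact_cokernel φ
  have hC := Groth.L21.Bundle.coh_cokernel hEc hPc φ
  have hrkP : Groth.L21.Bundle.rk ((Scheme.Modules.pushforward f).obj M) = 2 :=
    rk_push f (k := k) hd hrk hM
  have h0 : Groth.L21.Bundle.rk (cokernel φ) = 0 := by
    have h1 := Groth.L21.Bundle.rk_add hS hPc
    dsimp only at h1
    rw [Groth.L21.Bundle.rk_eq hE] at h1
    omega
  have hsupp := Groth.L21.Bundle.suppClosed_of_rk_eq_zero hd.le hC h0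
  have e1 := Groth.L21.RR.euler_add k hd.le hS hEc hPc hC
  dsimp only at e1
  rw [Groth.L21.RR.euler_eq_h0_of_suppClosed k hsupp, Groth.L03.Euler.euler_push (k := k) f M hMc.1 hf] at e1
  have e2 : Curv2.euler k P (Coh.structureModule P ⊞ Coh.structureModule P) =
      2 * Curv2.euler k P (Coh.structureModule P) := by
    have hS2 : (ShortComplex.mk (biprod.inl : Coh.structureModule P ⟶ Coh.structureModule P ⊞ Coh.structureModule P)
        biprod.snd biprod.inl_snd).ShortExact :=
      ShortComplex.Splitting.shortExact { r := biprod.fst, s := biprod.inr }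
    have := Groth.L21.RR.euler_add k hd.le hS2 hO hEc hO
    dsimp only at this
    linarith
  refine ⟨by linarith, fun heq => ?_⟩
  have hz : h k 0 (cokernel φ) = 0 := by omega
  haveI := Groth.L21.RR.finite_HH' k hC 0
  have hsub : Subsingleton (Coh.HH P (cokernel φ) 0) := Module.finrank_zero_iff.1 hz
  haveI : Epi φ := Preadditive.epi_of_isZero_cokernel φ (by
    rw [Groth.L21.Mod.isZero_iff_stalk_subsingleton]
    refine fun y => ⟨fun p q => ?_⟩
    obtain ⟨s, hs1, -⟩ := Groth.L21.RR.exists_section_germ hsupp y p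
    obtain ⟨s', hs2, -⟩ := Groth.L21.RR.exists_section_germ hsupp y q
    rw [← hs1, ← hs2, show s = s' from (Groth.L21.RR.e0 _).symm.injective (Subsingleton.elim _ _)])
  exact isIso_of_mono_of_epi φ

end Groth.L21.CastSev
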