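import Groth.Agent.L21.CastSev.Basic
import Groth.Agent.L21.CastSev.Split
import Groth.Agent.L21.CastSev.Factor
import Groth.Agent.L22.CurveDeg.NonSpecial
import Groth.Agent.L18.AmplePull
import Groth.Agent.L26.Weil.Axes

/-!
The Castelnuovo-Severi inequality for a pair of double covers.
-/

set_option autoImplicit false
set_option backward.isDefEq.respectTransparency false
set_option linter.style.haveILetI false
universe u

open CategoryTheory CategoryTheory.Limits AlgebraicGeometry TopologicalSpace Opposite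

noncomputable section

namespace Groth.L21.CastSev

open Groth.L21.RR (st h ptI)
open Groth.L00.Tensor (tensorAssoc tensorComm tensorIso tensorUnitRight)

variable {k : Type u} [Field k] [IsAlgClosed k] {X P Q : Scheme.{u}} [X.Over (Spec (CommRingCat.of k))]
  [P.Over (Spec (CommRingCat.of k))] [Q.Over (Spec (CommRingCat.of k))]

/-- Sections of an invertible module of degree one more than the genus separating two given points. -/
theorem exists_separating_pencil [IsIntegral Q] [IsProper (Q ↘ Spec (CommRingCat.of k))]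
    [Smooth (Q ↘ Spec (CommRingCat.of k))] (hd : topologicalKrullDim Q = 1) {p q : Q}
    (hp : IsClosed ({p} : Set Q)) (hq : IsClosed ({q} : Set Q)) (hpq : q ≠ p) :
    ∃ (M : Q.Modules) (s t : Coh.structureModule Q ⟶ M), PicF.IsInvertible M ∧
      Curv2.deg k Q M 1 = (Curv2.genus k Q : ℤ) + 1 ∧
      ¬ Function.Surjective (st s p) ∧ Function.Surjective (st s q) ∧ Function.Surjective (st t p) := by
  haveI := Groth.L21.RR.isNoetherian_of_proper (X := Q) k
  have h0 := Groth.L21.RR.h0_eq_one_of_isAlgClosed (X := Q) k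
  obtain ⟨L₀, hL₀, hL₀0, hL₀1⟩ := Groth.L22.CurveDeg.exists_nonspecial (X := Q) (k := k) hd 0
  have hpt : ∀ (r : Q) (hr : IsClosed ({r} : Set Q)), PicF.IsInvertible (ptI r hr) := fun r hr =>
    Groth.L18.Ample.isInvertible_of_iso (Groth.L00.Tensor.tensorUnitLeft _)
      (Groth.L21.RR.twist_point k hd (Groth.L18.Ample.isInvertible_structureModule Q) hr).1
  obtain ⟨P', hP', ⟨ip⟩⟩ := Groth.L08.Cube.exists_inverse (hpt p hp)
  obtain ⟨Q', hQ', ⟨iq⟩⟩ := Groth.L08.Cube.exists_inverse (hpt q hq)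
  let N := CohB1.tensorMod L₀ Q'
  let M := CohB1.tensorMod N P'
  have hN : PicF.IsInvertible N := Groth.L18.GenLoc.isInvertible_tensor hL₀ hQ'
  have hM : PicF.IsInvertible M := Groth.L18.GenLoc.isInvertible_tensor hN hP'
  let A := CohB1.tensorMod M (ptI p hp)
  obtain ⟨hA, heA, -, -, hMle, hMiff⟩ := Groth.L21.RR.twist_point k hd hM hp
  obtain ⟨hB, heB, -, -, hBle, -⟩ := Groth.L21.RR.twist_point k hd hA hq
  let i : CohB1.tensorMod A (ptI q hq) ≅ L₀ :=
    tensorIso (tensorAssoc N P' (ptI p hp) ≪≫ tensorIso (Iso.refl N) (tensorComm P' (ptI p hp) ≪≫ ip) ≪≫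
        tensorUnitRight N) (Iso.refl _) ≪≫
      tensorAssoc L₀ Q' (ptI q hq) ≪≫ tensorIso (Iso.refl L₀) (tensorComm Q' (ptI q hq) ≪≫ iq) ≪≫
        tensorUnitRight L₀
  have hB0 : h k 0 (CohB1.tensorMod A (ptI q hq)) = 0 := (Groth.L21.RR.h_congr k i 0).trans hL₀0
  have hB1 : h k 1 (CohB1.tensorMod A (ptI q hq)) = 0 :=
    (Groth.L21.RR.h_congr k i 1).trans (Groth.L21.RR.h_eq_zero_of_subsingleton k hL₀1)
  rw [Groth.L21.RR.euler_eq k hd.le, hB0, hB1] at heB
  have hAe := Groth.L21.RR.euler_eq k hd.le (CohB1.tensorMod M (ptI p hp))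
  have hMe := Groth.L21.RR.euler_eq k hd.le M
  push_cast at heB hAe hMe
  obtain ⟨x, hx⟩ : ∃ x : Coh.HH Q A 0, x ≠ 0 := by
    have h1 : 1 ≤ h k 0 A := by
      show 1 ≤ h k 0 (CohB1.tensorMod M (ptI p hp))
      omega
    haveI := Groth.L21.Duality.nontrivial_of_h0_pos (k := k) h1
    exact exists_ne 0
  obtain ⟨φ, hφ⟩ := Groth.L21.RR.exists_hom_of_hh0 x
  have hιp := Groth.L21.RR.isMinusPt_twι (L := M) hM hp
  have hιq := Groth.L21.RR.isMinusPt_twι (L := A) hA hq
  have hφq : Function.Surjective (st φ q) := by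
    by_contra hn
    obtain ⟨ψ, hψ⟩ := hιq.exists_lift_section hA φ hn
    haveI := Groth.L21.RR.finite_HH' k (Groth.L16.ProperFinite.isCoh_of_isInvertible hB) 0
    have hsub : Subsingleton (Coh.HH Q (CohB1.tensorMod A (ptI q hq)) 0) := Module.finrank_zero_iff.1 hB0
    refine hx ((Groth.L21.RR.e0 A).injective ?_)
    rw [map_zero, ← hφ, ← hψ]
    show (Groth.L21.RR.twι A _).app ⊤ (ψ.app ⊤ (Groth.L21.RR.oneSec Q)) = 0
    rw [show ψ.app ⊤ (Groth.L21.RR.oneSec Q) = 0 from (Groth.L21.RR.e0 _).symm.injective (Subsingleton.elim _ _),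
      map_zero]
  have hA2 : h k 0 (CohB1.tensorMod M (ptI p hp)) ≤ 1 := by
    change h k 0 A ≤ h k 0 (CohB1.tensorMod A (ptI q hq)) + 1 at hBle
    rw [hB0] at hBle
    exact hBle
  have hA1 : h k 1 (CohB1.tensorMod M (ptI p hp)) = 0 := by omega
  obtain ⟨t, ht⟩ : ∃ t : Coh.structureModule Q ⟶ M, Function.Surjective (st t p) := by
    by_contra hn
    have h1 := mt hMiff.1 hn
    omega
  refine ⟨M, φ ≫ Groth.L21.RR.twι M _, t, hM, ?_, hιp.not_surjective_comp hM φ,
    (hιp.surjective_comp_iff hpq φ).2 hφq, ht⟩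
  have hg : h k 1 (Coh.structureModule Q) = Curv2.genus k Q := rfl
  rw [Curv2.deg, Groth.L21.RR.euler_eq k hd.le (Coh.structureModule Q), h0, hg]
  push_cast
  omega

variable [IsIntegral X] [IsIntegral P] [IsIntegral Q] [IsProper (X ↘ Spec (CommRingCat.of k))]
  [IsProper (P ↘ Spec (CommRingCat.of k))] [IsProper (Q ↘ Spec (CommRingCat.of k))]
  [Smooth (Q ↘ Spec (CommRingCat.of k))]
  (f : X ⟶ P) [IsFinite f] [Flat f] (g : X ⟶ Q) [IsFinite g] [Flat g]
  (hdX : topologicalKrullDim X = 1) (hdP : topologicalKrullDim P = 1) (hdQ : topologicalKrullDim Q = 1)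
  (hregP : ∀ y : P, IsRegularLocalRing (P.presheaf.stalk y))
  (hf : f ≫ (P ↘ Spec (CommRingCat.of k)) = X ↘ Spec (CommRingCat.of k))
  (hg : g ≫ (Q ↘ Spec (CommRingCat.of k)) = X ↘ Spec (CommRingCat.of k))
  (hrf : ∀ y, f.finrank y = 2) (hrg : ∀ y, g.finrank y = 2)

/-- The conclusion of the Castelnuovo-Severi argument at a separated pair of points. -/
def Datum : Prop :=
  ∃ (M : Q.Modules) (s t : Coh.structureModule Q ⟶ M), PicF.IsInvertible M ∧
    Curv2.deg k Q M 1 = (Curv2.genus k Q : ℤ) + 1 ∧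
    ((Curv2.genus k X : ℤ) ≤ 2 * Curv2.genus k P + 2 * Curv2.genus k Q + 1) ∧
    ((Curv2.genus k X : ℤ) = 2 * Curv2.genus k P + 2 * Curv2.genus k Q + 1 →
      IsIso (biprod.desc (adj f (Groth.L18.Ample.pullHom g s)) (adj f (Groth.L18.Ample.pullHom g t))))

include hdX hdP hdQ hregP hf hg hrf hrg in
/-- A separated pair of closed points gives the inequality. -/
theorem datum_of_sep {x x' : X} (hx : IsClosed ({x} : Set X)) (hx' : IsClosed ({x'} : Set X))
    (hff : f x' = f x) (hgg : g x' ≠ g x) : Datum (k := k) f g := by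
  haveI := Groth.L21.RR.isNoetherian_of_proper (X := X) k
  haveI := Groth.L21.RR.isNoetherian_of_proper (X := P) k
  haveI := Groth.L21.RR.isNoetherian_of_proper (X := Q) k
  have hp : IsClosed ({g x} : Set Q) := by simpa using g.isClosedMap _ hx
  have hq : IsClosed ({g x'} : Set Q) := by simpa using g.isClosedMap _ hx'
  obtain ⟨M, s, t, hM, hdeg, hs, hs', ht⟩ := exists_separating_pencil (k := k) hdQ hp hq hgg
  have hgm := Groth.L18.Ample.isInvertible_pullback g hM
  have key : ∀ (u : Coh.structureModule Q ⟶ M) (z : X),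
      Function.Surjective (st (Groth.L18.Ample.pullHom g u) z) ↔ Function.Surjective (st u (g z)) := fun u z => by
    rw [← Groth.L21.RR.mem_genLocus_iff hgm, ← Groth.L21.RR.mem_genLocus_iff hM,
      Groth.L18.Ample.genLocus_pullHom g hM]
    rfl
  obtain ⟨hle, heq⟩ := euler_bound f hgm (Groth.L18.Ample.pullHom g s) (Groth.L18.Ample.pullHom g t) hdP hregP hf hrf
    hff (mt (key s x).1 hs) ((key s x').2 hs') ((key t x).2 ht)
  have hdg := deg_pullback hdQ g hg hrg hM
  rw [hdeg, Curv2.deg] at hdg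
  have e1 := Groth.L21.RR.euler_eq k hdX.le (Coh.structureModule X)
  have e2 := Groth.L21.RR.euler_eq k hdP.le (Coh.structureModule P)
  rw [Groth.L21.RR.h0_eq_one_of_isAlgClosed k, show h k 1 (Coh.structureModule X) = Curv2.genus k X from rfl] at e1
  rw [Groth.L21.RR.h0_eq_one_of_isAlgClosed k, show h k 1 (Coh.structureModule P) = Curv2.genus k P from rfl] at e2
  push_cast at hdg e1 e2
  exact ⟨M, s, t, hM, hdeg, by linarith, fun he => heq (by linarith)⟩

omit [IsProper (X ↘ Spec (CommRingCat.of k))] [IsProper (P ↘ Spec (CommRingCat.of k))]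
  [IsProper (Q ↘ Spec (CommRingCat.of k))] [Smooth (Q ↘ Spec (CommRingCat.of k))] [IsIntegral P] [IsIntegral Q]
  [IsFinite g] [Flat g] [IsFinite f] [Flat f] [IsAlgClosed k] in
theorem isClosed_of_eq_fibre [IsFinite f] {x x' : X} (hx : IsClosed ({x} : Set X)) (hff : f x' = f x) :
    IsClosed ({x'} : Set X) := by
  have hp : IsClosed ({f x} : Set P) := by simpa using f.isClosedMap _ hx
  haveI hdisc : DiscreteTopology (f ⁻¹' {f x} : Set X) :=
    isDiscrete_iff_discreteTopology.1 (f.isDiscrete_preimage_singleton (f x))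
  have hcl : IsClosed (f ⁻¹' {f x}) := hp.preimage f.continuous
  simpa using (hcl.isClosedEmbedding_subtypeVal).isClosedMap _
    (isClosed_discrete ({⟨x', hff⟩} : Set (f ⁻¹' {f x} : Set X)))

include hdX hdP hdQ hregP hf hg hrf hrg in
/-- Either a separated pair exists or the second cover factors through the first. -/
theorem datum_or_factor' (hsep : Sep f) : Datum (k := k) f g ∨ ∃ e : P ⟶ Q, f ≫ e = g := by
  haveI := Groth.L21.RR.isNoetherian_of_proper (X := X) k
  haveI := Groth.L21.RR.isNoetherian_of_proper (X := P) k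
  haveI : LocallyOfFinitePresentation f := inferInstance
  by_cases hall : ∀ x x' : X, f x' = f x → g x' = g x
  · exact Or.inr (exists_factor' f g hf hg hrf hsep hall)
  push Not at hall
  obtain ⟨x, x', hff, hgg⟩ := hall
  haveI : Surjective f := (Scheme.Hom.one_le_finrank_iff_surjective f).1 fun y => by
    show 1 ≤ f.finrank y
    rw [hrf y]; omega
  have huniq : ∀ z, f z = genericPoint P → z = genericPoint X := fun z he =>
    (Groth.L19.GenericFinite.eq_of_specializes_of_quasiFiniteAt f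
      (Groth.L19.GenericFinite.quasiFiniteAt_of_finite_fibre f _ (f.finite_preimage_singleton _))
      ((genericPoint_spec X).specializes (y := z) trivial)
      ((Groth.L05.CodimFlat.map_genericPoint f).trans he.symm)).symm
  have hxc : IsClosed ({x} : Set X) := by
    by_contra hn
    have hxη := Groth.L21.RR.eq_genericPoint_of_not_isClosed hdX.le hn
    have h1 : f x' = genericPoint P := hff.trans (hxη ▸ Groth.L05.CodimFlat.map_genericPoint f)
    exact hgg (by rw [huniq x' h1, hxη])
  exact Or.inl (datum_of_sep f g hdX hdP hdQ hregP hf hg hrf hrg hxc (isClosed_of_eq_fibre f hxc hff) hff hgg)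

include hdX hdP hdQ hregP hf hg hrf hrg in
/-- Two double covers are isomorphic or separate a pair of points, giving the inequality. -/
theorem datum_or_iso' (hsf : Sep f) (hsg : Sep g) [Smooth (P ↘ Spec (CommRingCat.of k))]
    (hregQ : ∀ y : Q, IsRegularLocalRing (Q.presheaf.stalk y)) :
    (Datum (k := k) f g ∨ Datum (k := k) g f) ∨
      ∃ e : P ≅ Q, e.hom ≫ (Q ↘ Spec (CommRingCat.of k)) = (P ↘ Spec (CommRingCat.of k)) ∧ f ≫ e.hom = g := by
  haveI := Groth.L21.RR.isNoetherian_of_proper (X := P) k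
  haveI := Groth.L21.RR.isNoetherian_of_proper (X := Q) k
  haveI : LocallyOfFinitePresentation f := inferInstance
  haveI : LocallyOfFinitePresentation g := inferInstance
  rcases datum_or_factor' f g hdX hdP hdQ hregP hf hg hrf hrg hsf with h | ⟨e, he⟩
  · exact Or.inl (Or.inl h)
  rcases datum_or_factor' g f hdX hdQ hdP hregQ hg hf hrg hrf hsg with h | ⟨e', he'⟩
  · exact Or.inl (Or.inr h)
  haveI : Surjective f := (Scheme.Hom.one_le_finrank_iff_surjective f).1 fun y => by
    show 1 ≤ f.finrank y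
    rw [hrf y]; omega
  haveI : Surjective g := (Scheme.Hom.one_le_finrank_iff_surjective g).1 fun y => by
    show 1 ≤ g.finrank y
    rw [hrg y]; omega
  haveI : Epi f := Flat.epi_of_flat_of_surjective f
  haveI : Epi g := Flat.epi_of_flat_of_surjective g
  refine Or.inr ⟨⟨e, e', ?_, ?_⟩, ?_, he⟩
  · rw [← cancel_epi f, reassoc_of% he, he', Category.comp_id]
  · rw [← cancel_epi g, reassoc_of% he', he, Category.comp_id]
  · rw [← cancel_epi f, reassoc_of% he, hg, hf]

include hdX hdP hdQ hregP hf hg hrf hrg in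
/-- The dichotomy in characteristic other than two. -/
theorem datum_or_factor (h2 : (2 : k) ≠ 0) : Datum (k := k) f g ∨ ∃ e : P ⟶ Q, f ≫ e = g :=
  datum_or_factor' f g hdX hdP hdQ hregP hf hg hrf hrg (sep_of_two f h2)

include hdX hdP hdQ hregP hf hg hrf hrg in
/-- Two double covers are isomorphic or separate a pair of points, in characteristic other than two. -/
theorem datum_or_iso (h2 : (2 : k) ≠ 0) [Smooth (P ↘ Spec (CommRingCat.of k))]
    (hregQ : ∀ y : Q, IsRegularLocalRing (Q.presheaf.stalk y)) :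
    (Datum (k := k) f g ∨ Datum (k := k) g f) ∨
      ∃ e : P ≅ Q, e.hom ≫ (Q ↘ Spec (CommRingCat.of k)) = (P ↘ Spec (CommRingCat.of k)) ∧ f ≫ e.hom = g :=
  datum_or_iso' f g hdX hdP hdQ hregP hf hg hrf hrg (sep_of_two f h2) (sep_of_two g h2) hregQ

end Groth.L21.CastSev
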