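import Groth.Agent.L21.CastSev.Factor
import Mathlib.RingTheory.Etale.Kaehler
import Mathlib.AlgebraicGeometry.Morphisms.Etale

/-!
Double covers which are etale somewhere are separable.
-/

set_option autoImplicit false
set_option backward.isDefEq.respectTransparency false
set_option linter.style.haveILetI false
universe u

open CategoryTheory CategoryTheory.Limits AlgebraicGeometry TopologicalSpace Opposite

noncomputable section

namespace Groth.L21.CastSev

open Groth.Agent.L13.DblCov

/-- A conjugation of a quadratic extension of a domain which is unramified somewhere fixes only the base. -/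
theorem mem_range_of_unramified {A B Bg : Type u} [CommRing A] [IsDomain A] [CommRing B] [CommRing Bg]
    [Nontrivial Bg] [Algebra B Bg] {φ : A →+* B} {θ : B} (h : IsGen φ θ) {σ : B →+* B} (hσ : IsConj φ σ)
    (g : B) [IsLocalization.Away g Bg] (hun : ((algebraMap B Bg).comp φ).FormallyUnramified) (b : B)
    (hb : σ b = b) : b ∈ φ.range := by
  obtain ⟨a, ha⟩ := hσ.sum θ
  obtain ⟨c, hc⟩ := hσ.prod θ
  obtain ⟨x, y, rfl⟩ := h.repr b
  have hy : -y = y ∧ x + y * a = x := by
    refine (h.eq (x := x + y * a) (y := -y) (x' := x) (y' := y) ?_).symm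
    rw [map_add, map_mul, hσ.fix, hσ.fix] at hb
    simp only [map_add, map_mul, map_neg]
    linear_combination hb + φ y * ha
  by_cases hy0 : y = 0
  · exact ⟨x, by simp [hy0]⟩
  exfalso
  have h2 : (2 : A) = 0 := (mul_eq_zero.1 (show (2 : A) * y = 0 by linear_combination -hy.1)).resolve_right hy0
  have ha0 : a = 0 := (mul_eq_zero.1 (show y * a = 0 by linear_combination hy.2)).resolve_left hy0
  have hθ : θ * θ = φ (-c) := by
    rw [ha0, map_zero] at ha
    rw [map_neg]
    linear_combination hc - θ * ha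
  letI : Algebra A B := φ.toAlgebra
  letI : Algebra A Bg := ((algebraMap B Bg).comp φ).toAlgebra
  haveI : IsScalarTower A B Bg := IsScalarTower.of_algebraMap_eq fun _ => rfl
  haveI : Algebra.FormallyUnramified A Bg := hun
  let e := Equiv.ofBijective _ h
  let Y : B → A := fun b => (e.symm b).2
  have hY : ∀ x y, Y (φ x + φ y * θ) = y := fun x y =>
    congrArg Prod.snd (e.symm_apply_apply (x, y))
  let D : B →ₗ[A] B :=
    { toFun := fun b => φ (Y b)
      map_add' := fun b b' => by
        obtain ⟨x, y, rfl⟩ := h.repr b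
        obtain ⟨x', y', rfl⟩ := h.repr b'
        rw [show φ x + φ y * θ + (φ x' + φ y' * θ) = φ (x + x') + φ (y + y') * θ by
          simp only [map_add]; ring, hY, hY, hY, map_add]
      map_smul' := fun r b => by
        obtain ⟨x, y, rfl⟩ := h.repr b
        rw [Algebra.smul_def, RingHom.id_apply, Algebra.smul_def, RingHom.algebraMap_toAlgebra,
          show φ r * (φ x + φ y * θ) = φ (r * x) + φ (r * y) * θ by simp only [map_mul]; ring,
          hY, hY, map_mul] }
  have h2B : (2 : B) = 0 := by rw [← map_ofNat φ, h2, map_zero]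
  let d : Derivation A B B := Derivation.mk' D fun b b' => by
    obtain ⟨x, y, rfl⟩ := h.repr b
    obtain ⟨x', y', rfl⟩ := h.repr b'
    show φ (Y _) = (φ x + φ y * θ) * φ (Y _) + (φ x' + φ y' * θ) * φ (Y _)
    rw [show (φ x + φ y * θ) * (φ x' + φ y' * θ) = φ (x * x' + y * y' * (-c)) + φ (x * y' + y * x') * θ by
      simp only [map_add, map_mul]; linear_combination φ y * φ y' * hθ, hY, hY, hY, map_add, map_mul, map_mul]
    linear_combination -(φ y * φ y' * θ) * h2B
  have hdθ : d θ = 1 := by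
    show φ (Y θ) = 1
    rw [show θ = φ 0 + φ 1 * θ by simp, hY, map_one]
  obtain ⟨⟨m, n, rfl⟩, hm⟩ := (IsLocalizedModule.eq_zero_iff (Submonoid.powers g)
    (KaehlerDifferential.map A A B Bg)).1 (Subsingleton.elim (KaehlerDifferential.map A A B Bg
      (KaehlerDifferential.D A B θ)) 0)
  have hm' := congrArg d.liftKaehlerDifferential hm
  rw [Submonoid.smul_def, map_smul, Derivation.liftKaehlerDifferential_comp_D, hdθ, map_zero,
    smul_eq_mul, mul_one] at hm'
  exact ((IsLocalization.Away.algebraMap_isUnit (S := Bg) g).pow n).ne_zero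
    (by rw [← map_pow]; exact (congrArg (algebraMap B Bg) hm').trans (map_zero _))

variable {X P : Scheme.{u}} [IsIntegral X] [IsIntegral P] (f : X ⟶ P) [IsFinite f]

/-- A double cover which is etale on a nonempty open is separable. -/
theorem sep_of_etale (hV : ∃ V : X.Opens, (V : Set X).Nonempty ∧ Etale (V.ι ≫ f)) : Sep f := by
  intro W b hb
  obtain ⟨V, hV, hEt⟩ := hV
  have hW' : IsAffineOpen (f ⁻¹ᵁ W.1) := W.2.1.preimage f
  by_cases hne : ((f ⁻¹ᵁ W.1 : X.Opens) : Set X).Nonempty
  swap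
  · haveI : Subsingleton Γ(X, f ⁻¹ᵁ W.1) := by
      rw [show f ⁻¹ᵁ W.1 = ⊥ from TopologicalSpace.Opens.ext (Set.not_nonempty_iff_eq_empty.1 hne)]
      infer_instance
    exact ⟨0, Subsingleton.elim _ _⟩
  obtain ⟨z, hzW, hzV⟩ := nonempty_preirreducible_inter (f ⁻¹ᵁ W.1).2 V.2 hne hV
  obtain ⟨g, hgV, hzg⟩ := hW'.exists_basicOpen_le ⟨z, hzV⟩ hzW
  haveI : Nonempty W.1 := ⟨⟨f z, hzW⟩⟩
  haveI : Nonempty (X.basicOpen g) := ⟨⟨z, hzg⟩⟩
  haveI : Nonempty (X.basicOpen g).toScheme := ‹_›
  haveI := hW'.isLocalization_basicOpen g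
  obtain ⟨θ, hθ⟩ := W.2.2
  obtain ⟨hσ, -, -⟩ := conjOn_spec f W
  refine mem_range_of_unramified (Bg := Γ(X, X.basicOpen g)) hθ hσ g ?_ b hb
  haveI := hEt
  have e : X.basicOpen g ≤ f ⁻¹ᵁ W.1 := X.basicOpen_le g
  have h1 := Scheme.Hom.formallyUnramified_appLE (V.ι ≫ f) W.2.1
    (V := V.ι ⁻¹ᵁ X.basicOpen g)
    ((hW'.basicOpen g).preimage_of_isOpenImmersion V.ι (by rw [Scheme.Opens.opensRange_ι]; exact hgV))
    (by intro w hw; exact e hw)
  haveI : IsIso (V.ι.app (X.basicOpen g)) := V.ι.isIso_app _ (by rw [Scheme.Opens.opensRange_ι]; exact hgV)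
  rw [← Scheme.Hom.appLE_comp_appLE V.ι f W.1 (X.basicOpen g) _ e le_rfl,
    ← Scheme.Hom.app_eq_appLE, CommRingCat.hom_comp,
    RingHom.FormallyUnramified.respectsIso.cancel_right_isIso] at h1
  exact h1

end Groth.L21.CastSev
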