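import Groth.Agent.L21.CastSev.Main
import Groth.Agent.L21.CastSev.Sep
import Groth.Agent.L21.Disc.SimplyConn
import Groth.Agent.L08.Cube.SmoothStalk
import Mathlib.AlgebraicGeometry.Sites.Fpqc

/-!
Double covers of curves of genus zero by a curve of genus at least two are unique over any field.
-/

set_option autoImplicit false
set_option backward.isDefEq.respectTransparency false
set_option linter.style.haveILetI false
universe u

open CategoryTheory CategoryTheory.Limits AlgebraicGeometry TopologicalSpace Opposite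

noncomputable section

namespace Groth.L21.CastSev

/-- A map killing the kernel pair of a base change descends. -/
theorem exists_desc_of_baseChange {C P Q S S' : Scheme.{u}} (φ : S' ⟶ S) [Flat φ] [Surjective φ]
    (p : C ⟶ S) (q : P ⟶ S) (q' : Q ⟶ S) (f : C ⟶ P) [QuasiCompact f] [Flat f] [Surjective f]
    (g : C ⟶ Q) (hf : f ≫ q = p) (hg : g ≫ q' = p) (e : pullback q φ ⟶ pullback q' φ)
    (he : pullback.lift (pullback.fst p φ ≫ f) (pullback.snd p φ) (by rw [Category.assoc, hf, pullback.condition]) ≫ e =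
      pullback.lift (pullback.fst p φ ≫ g) (pullback.snd p φ) (by rw [Category.assoc, hg, pullback.condition])) :
    ∃ e₀ : P ⟶ Q, f ≫ e₀ = g := by
  have key : ∀ {T : Scheme.{u}} (a b : T ⟶ C), a ≫ f = b ≫ f → a ≫ g = b ≫ g := by
    intro T a b hab
    have hp : b ≫ p = a ≫ p := by rw [← hf, ← reassoc_of% hab]
    let t := pullback.fst (a ≫ p) φ
    haveI : Flat t := MorphismProperty.pullback_fst (P := @Flat) _ _ ‹_›
    haveI : Surjective t := MorphismProperty.pullback_fst (P := @Surjective) _ _ ‹_›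
    haveI : Epi t := Flat.epi_of_flat_of_surjective _
    let aK : pullback (a ≫ p) φ ⟶ pullback p φ :=
      pullback.lift (t ≫ a) (pullback.snd _ _) (by rw [Category.assoc]; exact pullback.condition)
    let bK : pullback (a ≫ p) φ ⟶ pullback p φ :=
      pullback.lift (t ≫ b) (pullback.snd _ _) (by rw [Category.assoc, hp]; exact pullback.condition)
    let fK : pullback p φ ⟶ pullback q φ :=
      pullback.lift (pullback.fst p φ ≫ f) (pullback.snd p φ) (by rw [Category.assoc, hf, pullback.condition])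
    have h1 : aK ≫ fK = bK ≫ fK := pullback.hom_ext (by simp [aK, bK, fK, hab]) (by simp [aK, bK, fK])
    have h2 := congrArg (· ≫ e ≫ pullback.fst q' φ) h1
    simp only [Category.assoc, fK, reassoc_of% he, pullback.lift_fst] at h2
    rw [← cancel_epi t]
    simpa [aK, bK] using h2
  exact ⟨EffectiveEpi.desc f g fun a b h => key a b h, EffectiveEpi.fac f g _⟩

variable {k : Type u} [Field k]

/-- The double cover of a curve of genus at least two onto a curve of genus zero is unique. -/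
theorem unique_double_cover {C : Scheme.{u}}
    (p : C ⟶ Spec (CommRingCat.of k)) [IsProper p] [Smooth p] [GeometricallyConnected p] (hC : topologicalKrullDim C = 1)
    (hg : 2 ≤ @Curv2.genus k _ C ⟨p⟩)
    {P₁ P₂ : Scheme.{u}} (q₁ : P₁ ⟶ Spec (CommRingCat.of k)) (q₂ : P₂ ⟶ Spec (CommRingCat.of k))
    [IsProper q₁] [Smooth q₁] [GeometricallyConnected q₁] (hP₁ : topologicalKrullDim P₁ = 1) (hg₁ : @Curv2.genus k _ P₁ ⟨q₁⟩ = 0)
    [IsProper q₂] [Smooth q₂] [GeometricallyConnected q₂] (hP₂ : topologicalKrullDim P₂ = 1) (hg₂ : @Curv2.genus k _ P₂ ⟨q₂⟩ = 0)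
    (f₁ : C ⟶ P₁) (hf₁ : f₁ ≫ q₁ = p) [IsFinite f₁] [Flat f₁] (hr₁ : ∀ y : P₁, Scheme.Hom.finrank f₁ y = 2)
    (he₁ : ∃ V : C.Opens, (V : Set C).Nonempty ∧ Etale (V.ι ≫ f₁))
    (f₂ : C ⟶ P₂) (hf₂ : f₂ ≫ q₂ = p) [IsFinite f₂] [Flat f₂] (hr₂ : ∀ y : P₂, Scheme.Hom.finrank f₂ y = 2)
    (he₂ : ∃ V : C.Opens, (V : Set C).Nonempty ∧ Etale (V.ι ≫ f₂)) :
    ∃ e : P₁ ≅ P₂, e.hom ≫ q₂ = q₁ ∧ f₁ ≫ e.hom = f₂ := by
  letI : C.Over (Spec (CommRingCat.of k)) := ⟨p⟩
  letI : P₁.Over (Spec (CommRingCat.of k)) := ⟨q₁⟩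
  letI : P₂.Over (Spec (CommRingCat.of k)) := ⟨q₂⟩
  haveI : IsProper (C ↘ Spec (CommRingCat.of k)) := ‹IsProper p›
  haveI : IsProper (P₁ ↘ Spec (CommRingCat.of k)) := ‹IsProper q₁›
  haveI : IsProper (P₂ ↘ Spec (CommRingCat.of k)) := ‹IsProper q₂›
  haveI hiC : GeometricallyIntegral (C ↘ Spec (CommRingCat.of k)) := Groth.L21.Disc.geometricallyIntegral_of_smooth p
  haveI hi₁ : GeometricallyIntegral (P₁ ↘ Spec (CommRingCat.of k)) := Groth.L21.Disc.geometricallyIntegral_of_smooth q₁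
  haveI hi₂ : GeometricallyIntegral (P₂ ↘ Spec (CommRingCat.of k)) := Groth.L21.Disc.geometricallyIntegral_of_smooth q₂
  let K := AlgebraicClosure k
  let φ := Spec.map (CommRingCat.ofHom (algebraMap k K))
  haveI : Flat φ := Flat.SpecMap_iff.mpr (RingHom.flat_algebraMap_iff.mpr inferInstance)
  haveI : Surjective φ :=
    ⟨fun z => ⟨(IsLocalRing.closedPoint K : PrimeSpectrum K), Subsingleton.elim (α := PrimeSpectrum k) _ _⟩⟩
  letI oC : (pullback p φ).Over (Spec (CommRingCat.of K)) := ⟨pullback.snd _ _⟩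
  letI o₁ : (pullback q₁ φ).Over (Spec (CommRingCat.of K)) := ⟨pullback.snd _ _⟩
  letI o₂ : (pullback q₂ φ).Over (Spec (CommRingCat.of K)) := ⟨pullback.snd _ _⟩
  have sC : IsPullback (pullback.fst p φ) (pullback p φ ↘ Spec (CommRingCat.of K))
      (C ↘ Spec (CommRingCat.of k)) φ := IsPullback.of_hasPullback _ _
  have s₁ : IsPullback (pullback.fst q₁ φ) (pullback q₁ φ ↘ Spec (CommRingCat.of K))
      (P₁ ↘ Spec (CommRingCat.of k)) φ := IsPullback.of_hasPullback _ _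
  have s₂ : IsPullback (pullback.fst q₂ φ) (pullback q₂ φ ↘ Spec (CommRingCat.of K))
      (P₂ ↘ Spec (CommRingCat.of k)) φ := IsPullback.of_hasPullback _ _
  obtain ⟨_, _, hdC⟩ := Groth.L21.RR.bc_facts k K hC _ sC
  obtain ⟨_, _, hd₁⟩ := Groth.L21.RR.bc_facts k K hP₁ _ s₁
  obtain ⟨_, _, hd₂⟩ := Groth.L21.RR.bc_facts k K hP₂ _ s₂
  haveI : Smooth (pullback q₁ φ ↘ Spec (CommRingCat.of K)) :=
    MorphismProperty.of_isPullback (P := @Smooth) s₁ ‹Smooth q₁›
  haveI : Smooth (pullback q₂ φ ↘ Spec (CommRingCat.of K)) :=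
    MorphismProperty.of_isPullback (P := @Smooth) s₂ ‹Smooth q₂›
  haveI : Surjective (pullback.fst p φ) := MorphismProperty.pullback_fst (P := @Surjective) _ _ ‹_›
  let F₁ : pullback p φ ⟶ pullback q₁ φ :=
    pullback.lift (pullback.fst p φ ≫ f₁) (pullback.snd p φ) (by rw [Category.assoc, hf₁, pullback.condition])
  let F₂ : pullback p φ ⟶ pullback q₂ φ :=
    pullback.lift (pullback.fst p φ ≫ f₂) (pullback.snd p φ) (by rw [Category.assoc, hf₂, pullback.condition])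
  have t₁ : IsPullback (pullback.fst p φ) F₁ f₁ (pullback.fst q₁ φ) :=
    IsPullback.of_bot (by rw [pullback.lift_snd, hf₁]; exact IsPullback.of_hasPullback _ _)
      (pullback.lift_fst _ _ _).symm (IsPullback.of_hasPullback q₁ φ)
  have t₂ : IsPullback (pullback.fst p φ) F₂ f₂ (pullback.fst q₂ φ) :=
    IsPullback.of_bot (by rw [pullback.lift_snd, hf₂]; exact IsPullback.of_hasPullback _ _)
      (pullback.lift_fst _ _ _).symm (IsPullback.of_hasPullback q₂ φ)
  haveI : IsFinite F₁ := MorphismProperty.of_isPullback (P := @IsFinite) t₁ ‹_›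
  haveI : IsFinite F₂ := MorphismProperty.of_isPullback (P := @IsFinite) t₂ ‹_›
  haveI : Flat F₁ := MorphismProperty.of_isPullback (P := @Flat) t₁ ‹_›
  haveI : Flat F₂ := MorphismProperty.of_isPullback (P := @Flat) t₂ ‹_›
  have hsep₁ : Sep F₁ := by
    obtain ⟨V, ⟨x, hx⟩, hV⟩ := he₁
    obtain ⟨y, hy⟩ := (pullback.fst p φ).surjective x
    exact sep_of_etale F₁ ⟨pullback.fst p φ ⁻¹ᵁ V, ⟨y, show pullback.fst p φ y ∈ V by rw [hy]; exact hx⟩,
      MorphismProperty.of_isPullback (P := @Etale) ((isPullback_morphismRestrict _ V).paste_vert t₁) hV⟩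
  have hsep₂ : Sep F₂ := by
    obtain ⟨V, ⟨x, hx⟩, hV⟩ := he₂
    obtain ⟨y, hy⟩ := (pullback.fst p φ).surjective x
    exact sep_of_etale F₂ ⟨pullback.fst p φ ⁻¹ᵁ V, ⟨y, show pullback.fst p φ y ∈ V by rw [hy]; exact hx⟩,
      MorphismProperty.of_isPullback (P := @Etale) ((isPullback_morphismRestrict _ V).paste_vert t₂) hV⟩
  have gC := Groth.L21.RR.genus_bc (pullback.fst p φ) sC
  have g₁ := Groth.L21.RR.genus_bc (pullback.fst q₁ φ) s₁
  have g₂ := Groth.L21.RR.genus_bc (pullback.fst q₂ φ) s₂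
  rcases datum_or_iso' (k := K) F₁ F₂ hdC hd₁ hd₂
      (Groth.L08.Cube.isRegularLocalRing_of_smooth (pullback q₁ φ ↘ Spec (CommRingCat.of K)))
      (pullback.lift_snd _ _ _) (pullback.lift_snd _ _ _)
      (fun y => (Scheme.Hom.finrank_of_isPullback _ _ _ _ t₁ y).trans (hr₁ _))
      (fun y => (Scheme.Hom.finrank_of_isPullback _ _ _ _ t₂ y).trans (hr₂ _)) hsep₁ hsep₂
      (Groth.L08.Cube.isRegularLocalRing_of_smooth (pullback q₂ φ ↘ Spec (CommRingCat.of K))) with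
    (⟨_, _, _, _, _, h, _⟩ | ⟨_, _, _, _, _, h, _⟩) | ⟨e, -, he⟩
  · rw [gC, g₁, g₂, hg₁, hg₂] at h
    change ((@Curv2.genus k _ C ⟨p⟩ : ℕ) : ℤ) ≤ _ at h
    omega
  · rw [gC, g₁, g₂, hg₁, hg₂] at h
    change ((@Curv2.genus k _ C ⟨p⟩ : ℕ) : ℤ) ≤ _ at h
    omega
  haveI : Surjective f₁ := (Scheme.Hom.one_le_finrank_iff_surjective f₁).1 fun y => by
    show 1 ≤ f₁.finrank y
    rw [hr₁ y]; omega
  haveI : Surjective f₂ := (Scheme.Hom.one_le_finrank_iff_surjective f₂).1 fun y => by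
    show 1 ≤ f₂.finrank y
    rw [hr₂ y]; omega
  obtain ⟨a, ha⟩ := exists_desc_of_baseChange φ p q₁ q₂ f₁ f₂ hf₁ hf₂ e.hom he
  obtain ⟨b, hb⟩ := exists_desc_of_baseChange φ p q₂ q₁ f₂ f₁ hf₂ hf₁ e.inv
    (by rw [Iso.comp_inv_eq]; exact he.symm)
  haveI : Epi f₁ := Flat.epi_of_flat_of_surjective f₁
  haveI : Epi f₂ := Flat.epi_of_flat_of_surjective f₂
  refine ⟨⟨a, b, ?_, ?_⟩, ?_, ha⟩
  · rw [← cancel_epi f₁, reassoc_of% ha, hb, Category.comp_id]
  · rw [← cancel_epi f₂, reassoc_of% hb, ha, Category.comp_id]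
  · rw [← cancel_epi f₁, reassoc_of% ha, hf₂, hf₁]

end Groth.L21.CastSev
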